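import Cfsg.Agent.FS.Sw.D7c_m3
import Cfsg.Agent.FS.Real.Math
import Cfsg.Agent.FS.Real.PcFast
import Cfsg.Agent.FS.Sw.D7e_mg_m3
import Cfsg.Agent.TypeM.FactsLy
import Cfsg.Prelude.Def_G2
import Cfsg.Agent.FastGrp
import Cfsg.Agent.Prune
set_option linter.all false

section
prune_inst 0x7ffcfefbaff8bddfffff7e7fffffdffdffb9ffffeffff9fbffed7fffbfdf6b6fcfe5fbafeffcdafe9ff7e2be90f87b53ffffdeffef6bdc7ffffd5ff45ffbff9fffffbd2c71dfbcbe0ffe6ffffbf07f8e7f3fffffffffffffffffffffffffffffffffffffffff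

-- part: FS/Th/Tests
section
prune_inst 0x2010400030000000001800000000200440000100006000012800040200010301200101003240160001100260000a800002100009021000002000820040040000042830c20000110001000040f807180c00000000000000000000000000000000000000000
set_option linter.all false
open scoped Cfsg.Agent.FastGrp

/-!
# Chain tests, N-test, H-test, Thompson counts (TH2 d, f) (helper79, project FS)

* `triv_of_chain`: an automorphism of odd prime power order stabilizing a chain is trivial on the top modulo the bottom.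
* `Loc.exists_triv`: if `g ∈ N(P) \ P` stabilizes an `A`-invariant chain, some `α ∈ A \ D` is trivial on the top modulo
  the bottom.  Consequences `LocM.chain` (H-test), `LocN.chain` (N-test), `LocZ.chain`.
* `TopM.chain`, `inner_of_chain`, `top_mapsTo_of_chain`: chains with steps of index `2` in `G`.
* `Hyp.thompson`, `Emb`: the extremal conjugate of an involution and the counts that grow.
-/

set_option autoImplicit false

namespace Cfsg.Agent.FS.Th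

open Cfsg Cfsg.FusionSystem Cfsg.Agent.H802 Cfsg.Agent.H752

universe u v

variable {G : Type u} [Group G]

theorem triv_of_chain [Finite G] (hG : IsPGroup 2 G) {K : ℕ → Subgroup G} {m : ℕ} {β : MulAut G}
    (hβ : β ∈ chainStab K m) {r k : ℕ} (hr : r.Prime) (hr2 : r ≠ 2) (hk : β ^ r ^ k = 1)
    (h0 : ∀ y, ∀ x ∈ K 0, y * x * y⁻¹ ∈ K 0) : ∀ x ∈ K m, x⁻¹ * β x ∈ K 0 := by
  have : Fact (Nat.Prime 2) := ⟨Nat.prime_two⟩
  let T : Subgroup G :=
    { carrier := {x | x⁻¹ * β x ∈ K 0}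
      one_mem' := by
        show (1 : G)⁻¹ * β 1 ∈ K 0
        rw [map_one, inv_mul_cancel]
        exact (K 0).one_mem
      mul_mem' := fun {a b} (ha : a⁻¹ * β a ∈ K 0) (hb : b⁻¹ * β b ∈ K 0) => by
        show (a * b)⁻¹ * β (a * b) ∈ K 0
        have h1 : (a * b)⁻¹ * β (a * b) = b⁻¹ * (a⁻¹ * β a) * b⁻¹⁻¹ * (b⁻¹ * β b) := by
          rw [map_mul]
          group
        rw [h1]
        exact (K 0).mul_mem (h0 _ _ ha) hb
      inv_mem' := fun {a} (ha : a⁻¹ * β a ∈ K 0) => by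
        show a⁻¹⁻¹ * β a⁻¹ ∈ K 0
        have h1 : a⁻¹⁻¹ * β a⁻¹ = a * (a⁻¹ * β a)⁻¹ * a⁻¹ := by
          rw [map_inv]
          group
        rw [h1]
        exact h0 _ _ ((K 0).inv_mem ha) }
  refine (le_fixed_sup hG hβ hr hr2 hk m le_rfl).trans (sup_le (fun x hx => ?_) fun x hx => ?_ : _ ≤ T)
  · show x⁻¹ * β x ∈ K 0
    rw [show β x = x from hx, inv_mul_cancel]
    exact (K 0).one_mem
  · exact (K 0).mul_mem ((K 0).inv_mem hx) ((hβ.1 0 x).2 hx)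

theorem Cj.pow {P : Subgroup G} {g : G} {γ : MulAut P} (h : Cj g γ) : ∀ n : ℕ, Cj (g ^ n) (γ ^ n)
  | 0 => fun x => by rw [pow_zero, pow_zero, one_mul, inv_one, mul_one]; rfl
  | n + 1 => by rw [pow_succ, pow_succ]; exact (h.pow n).mul h

/-- Every essential subgroup carries a local datum. -/
theorem locM_of_essential [Finite G] (hG : IsPGroup 2 G) {F : FusionSystem (⊤ : Subgroup G)} (hF : F.IsSaturated 2)
    {P : Subgroup G} (hP : F.IsEssential 2 P) : ∃ D, Loc P (F.autGroup P) D := by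
  have : Fact (Nat.Prime 2) := ⟨Nat.prime_two⟩
  obtain ⟨D, h1, -, h2⟩ := exists_ctx (hG.to_subgroup ⊤) hF hP
  exact ⟨D, h1.loc h2 (ne_of_isEssential (hG.to_subgroup ⊤) hF hP)⟩

/-! ### chains with steps of index two -/

/-- A chain of characteristic subgroups with steps of index at most `2`. -/
structure Chain2 (K : ℕ → Subgroup G) (m : ℕ) : Prop where
  char : ∀ (θ : MulAut G) (i : ℕ), ∀ x ∈ K i, θ x ∈ K i
  step : ∀ i < m, ∀ x ∈ K (i + 1), ∀ y ∈ K (i + 1), x ∉ K i → y ∉ K i → y * x⁻¹ ∈ K i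

theorem Chain2.mem [Finite G] {K : ℕ → Subgroup G} {m : ℕ} (h : Chain2 K m) (θ : MulAut G) : θ ∈ chainStab K m :=
  mem_chainStab (h.char θ) fun i hi x hx => by
    by_cases h1 : x ∈ K i
    · exact (K i).mul_mem (h.char θ i x h1) ((K i).inv_mem h1)
    · exact h.step i hi x hx _ (h.char θ _ x hx) h1 fun h2 => h1 ((iff_of_mapsTo (h.char θ i) x).1 h2)

theorem Chain2.triv [Finite G] (hG : IsPGroup 2 G) {K : ℕ → Subgroup G} {m : ℕ} (h : Chain2 K m) {θ : MulAut G}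
    {r k : ℕ} (hr : r.Prime) (hr2 : r ≠ 2) (hk : θ ^ r ^ k = 1) : ∀ x ∈ K m, x⁻¹ * θ x ∈ K 0 :=
  triv_of_chain hG (h.mem θ) hr hr2 hk fun y => h.char (MulAut.conj y) 0

/-! ### Thompson transfer -/

/-- `f` is an injective homomorphism `C(i) → C(j)` with `i ↦ j`. -/
structure Emb (i j : G) (f : G → G) : Prop where
  map : f i = j
  mul : ∀ x y, x * i = i * x → y * i = i * y → f (x * y) = f x * f y
  inj : ∀ x y, x * i = i * x → y * i = i * y → f x = f y → x = y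

namespace Emb

variable {i j : G} {f : G → G}

theorem comm (h : Emb i j f) {x : G} (hx : x * i = i * x) : f x * j = j * f x := by
  rw [← h.map, ← h.mul x i hx rfl, ← h.mul i x rfl hx, hx]

theorem one (h : Emb i j f) : f 1 = 1 := by
  have h1 := h.mul 1 1 (by rw [one_mul, mul_one]) (by rw [one_mul, mul_one])
  rw [one_mul] at h1
  exact left_eq_mul.1 h1

theorem eq_one (h : Emb i j f) {x : G} (hx : x * i = i * x) : f x = 1 ↔ x = 1 :=
  ⟨fun h1 => h.inj x 1 hx (by rw [one_mul, mul_one]) (h1.trans h.one.symm), fun h1 => by rw [h1, h.one]⟩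

end Emb

/-- **T2.**  A central involution whose coset of `M` is fixed by `Aut_F(G)` lies in `M`. -/
theorem Hyp.central_mem [Finite G] (hG : IsPGroup 2 G) {F : FusionSystem (⊤ : Subgroup G)} (h : Hyp F)
    {M : Subgroup G} (hM : ∀ x y, x * y * x⁻¹ * y⁻¹ ∈ M) {z : G} (hz2 : z * z = 1) (hzc : ∀ g, g * z = z * g)
    (hf : ∀ f, Mp F ⊤ f → z⁻¹ * f z ∈ M) : z ∈ M :=
  Th.central_mem (hG.to_subgroup ⊤) h.sat M (fun x _ y _ => hM x y) (Subgroup.mem_top z) (h.foc (Subgroup.mem_top z))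
    (by rw [pow_two, hz2]) (fun w _ => hzc w) hf

end Cfsg.Agent.FS.Th
end

-- part: FS/B/Th
section
prune_inst 0x500000000018000000002004400001000060000108000402000903002000010000001600000002400000000000000000001000000000000040000000002810000000000000000000b007180c00000000000000000000000000000000000000000
set_option linter.all false
open scoped Cfsg.Agent.FastGrp

/-!
# Abstract rules behind the certificate checker of part B (statements helper80, proofs helper49; project FS)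
-/

set_option autoImplicit false

namespace Cfsg.Agent.FS.B

open Cfsg Cfsg.FusionSystem Cfsg.Agent.H802 Cfsg.Agent.H752 Cfsg.Agent.FS.Th

universe u

variable {A : Type u} [Group A]

/-- `r` normalizes `Q`, lies outside `Q`, its square lies in `Q`. -/
def Nq (Q : Subgroup A) (r : A) : Prop := (∀ x ∈ Q, r * x * r⁻¹ ∈ Q) ∧ r ∉ Q ∧ r * r ∈ Q

/-- `q` is an endomorphism of `Q` preserving `J`; an odd power of it is the conjugation by an element of `J`. -/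
structure OddMod (J Q : Subgroup A) (q : A → A) : Prop where
  le : J ≤ Q
  mem : ∀ x ∈ Q, q x ∈ Q
  mul : ∀ x ∈ Q, ∀ y ∈ Q, q (x * y) = q x * q y
  memJ : ∀ x ∈ J, q x ∈ J
  odd : ∃ o, Odd o ∧ ∃ h ∈ J, ∀ x ∈ Q, q^[o] x = h * x * h⁻¹

/-- The unknown automorphism `f` of `Q`. -/
structure Au (F : FusionSystem (⊤ : Subgroup A)) (M : Subgroup A → (A → A) → Prop) (Q : Subgroup A) (f : A → A) :
    Prop where
  mp : Mp F Q f
  mem : ∀ x ∈ Q, f x ∈ Q
  ord : ∃ r k : ℕ, r.Prime ∧ r ≠ 2 ∧ ∀ x ∈ Q, f^[r ^ k] x = x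
  nid : ¬ ∀ x ∈ Q, f x = x
  nm : ¬ M Q f

/-- The dihedral data. -/
structure Di (F : FusionSystem (⊤ : Subgroup A)) (Q : Subgroup A) (τ : A) (f : A → A) : Prop where
  fn : F.IsFullyNormalized Q
  tN : ∀ x ∈ Q, τ * x * τ⁻¹ ∈ Q
  tsq : τ * τ ∈ Q
  inv : ∀ x ∈ Q, f (τ * f x * τ⁻¹) = τ * x * τ⁻¹
  fix : f (τ * τ) = τ * τ
  se : ∀ r s : A, Nq Q r → Nq Q s → ∃ q : A → A, (∀ a ∈ Q, q (f a) = r * f (s * a * s⁻¹) * r⁻¹) ∧ OddMod Q Q q

/-- The conclusion at an essential subgroup. -/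
def EssF (F : FusionSystem (⊤ : Subgroup A)) (M : Subgroup A → (A → A) → Prop) (Q : Subgroup A) : Prop :=
  ∀ t : A, Nq Q t → ∃ (τ : A) (f : A → A), τ * t⁻¹ ∈ Q ∧ Au F M Q f ∧ Di F Q τ f

/-- conjugations -/
def Inn0 (P : Subgroup A) (g : A → A) : Prop := ∃ s : A, ∀ x ∈ P, g x = s * x * s⁻¹

/-- the property of a `cen` node -/
def cenP (M : Subgroup A) (z : A) (P : Subgroup A) (f : A → A) : Prop := P = ⊤ → z⁻¹ * f z ∈ M

/-- the subgroup generated by the squares -/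
def Sq (Q : Subgroup A) : Subgroup A := Subgroup.closure {y | ∃ a ∈ Q, y = a * a}

/-- `K` is `f`-invariant, contains the squares, and `f` is trivial on `K` modulo the squares. -/
structure Tr (Q : Subgroup A) (f : A → A) (K : Subgroup A) : Prop where
  ge : Sq Q ≤ K
  le : K ≤ Q
  inv : ∀ x ∈ K, f x ∈ K
  triv : ∀ x ∈ K, f x * x⁻¹ ∈ Sq Q

variable {F : FusionSystem (⊤ : Subgroup A)} {M : Subgroup A → (A → A) → Prop} {J Q : Subgroup A} {f q : A → A} {τ : A}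

/-! ### T0: odd powers -/

theorem OddMod.iter (h : OddMod J Q q) : ∀ n, (∀ x ∈ Q, q^[n] x ∈ Q) ∧
    (∀ x ∈ Q, ∀ y ∈ Q, q^[n] (x * y) = q^[n] x * q^[n] y) ∧ ∀ x ∈ J, q^[n] x ∈ J
  | 0 => ⟨fun _ h => h, fun _ _ _ _ => rfl, fun _ h => h⟩
  | n + 1 => by
    obtain ⟨a1, a2, a3⟩ := h.iter n
    simp only [Function.iterate_succ_apply]
    exact ⟨fun x hx => a1 _ (h.mem x hx), fun x hx y hy => by rw [h.mul x hx y hy, a2 _ (h.mem x hx) _ (h.mem y hy)],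
      fun x hx => a3 _ (h.memJ x hx)⟩

theorem OddMod.iter_conj (h : OddMod J Q q) (n : ℕ) {k x : A} (hk : k ∈ J) (hx : x ∈ Q) :
    q^[n] (k * x * k⁻¹) = q^[n] k * q^[n] x * (q^[n] k)⁻¹ := by
  have h1 := h.le hk
  have h2 := (h.iter n).2.1 _ (Q.mul_mem (Q.mul_mem h1 hx) (Q.inv_mem h1)) k h1
  rw [inv_mul_cancel_right, (h.iter n).2.1 k h1 x hx] at h2
  rw [h2, mul_inv_cancel_right]

theorem OddMod.half (h : OddMod J Q q) {X : Set A} (hX : ∀ x ∈ X, x ∈ Q) {u : ℕ}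
    (h2 : ∃ k ∈ J, ∀ x ∈ X, q^[u] (q^[u] x) = k * x * k⁻¹) : ∃ k ∈ J, ∀ x ∈ X, q^[u] x = k * x * k⁻¹ := by
  obtain ⟨k, hk, h2⟩ := h2
  obtain ⟨o, ⟨j, ho⟩, c, hc, h3⟩ := h.odd
  have a1 : ∀ m, ∃ k ∈ J, ∀ x ∈ X, q^[m * (u + u)] x = k * x * k⁻¹ := fun m => by
    induction m with
    | zero => exact ⟨1, J.one_mem, fun x _ => by simp⟩
    | succ m ih =>
      obtain ⟨l, hl, h4⟩ := ih
      refine ⟨q^[m * (u + u)] k * l, J.mul_mem ((h.iter _).2.2 k hk) hl, fun x hx => ?_⟩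
      rw [Nat.succ_mul, Function.iterate_add_apply, Function.iterate_add_apply q u, h2 x hx,
        h.iter_conj _ hk (hX x hx), h4 x hx]
      group
  have a2 : ∀ m, ∃ k ∈ J, ∀ x ∈ Q, q^[m * o] x = k * x * k⁻¹ := fun m => by
    induction m with
    | zero => exact ⟨1, J.one_mem, fun x _ => by simp⟩
    | succ m ih =>
      obtain ⟨l, hl, h4⟩ := ih
      refine ⟨c * l, J.mul_mem hc hl, fun x hx => ?_⟩
      rw [Nat.succ_mul, Nat.add_comm, Function.iterate_add_apply, h4 x hx,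
        h3 _ (Q.mul_mem (Q.mul_mem (h.le hl) hx) (Q.inv_mem (h.le hl)))]
      group
  obtain ⟨l, hl, h4⟩ := a1 j
  obtain ⟨l', hl', h5⟩ := a2 u
  refine ⟨(q^[u] l)⁻¹ * l', J.mul_mem (J.inv_mem ((h.iter u).2.2 l hl)) hl', fun x hx => ?_⟩
  have h6 := h5 x (hX x hx)
  rw [show u * o = u + j * (u + u) by rw [ho]; ring, Function.iterate_add_apply, h4 x hx,
    h.iter_conj u hl (hX x hx)] at h6
  calc q^[u] x = (q^[u] l)⁻¹ * (q^[u] l * q^[u] x * (q^[u] l)⁻¹) * q^[u] l := by group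
    _ = _ := by rw [h6]; group

theorem Au.oddMod_bot (h : Au F M Q f) : OddMod ⊥ Q f := by
  obtain ⟨r, k, hr, hr2, h1⟩ := h.ord
  exact ⟨bot_le, h.mem, fun x hx y hy => h.mp.mul hx hy, fun x hx => by
    rw [Subgroup.mem_bot.1 hx, h.mp.one]; exact Subgroup.one_mem _, _, (hr.odd_of_ne_two hr2).pow, 1,
    Subgroup.one_mem _, fun x hx => by rw [h1 x hx, one_mul, inv_one, mul_one]⟩

theorem Au.oddMod (h : Au F M Q f) : OddMod Q Q f := by
  obtain ⟨r, k, hr, hr2, h1⟩ := h.ord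
  exact ⟨le_rfl, h.mem, fun x hx y hy => h.mp.mul hx hy, h.mem, _, (hr.odd_of_ne_two hr2).pow, 1,
    Subgroup.one_mem _, fun x hx => by rw [h1 x hx, one_mul, inv_one, mul_one]⟩

/-! ### T1 - T3: failures -/

theorem fn_iter (α : MulAut Q) {x : A} (hx : x ∈ Q) : ∀ n, (fn α)^[n] x = fn (α ^ n) x
  | 0 => by rw [pow_zero, fn_one hx]; rfl
  | n + 1 => by rw [Function.iterate_succ_apply', fn_iter α hx n, pow_succ', fn_mul _ _ hx]

theorem au_fn {α : MulAut Q} (hα : α ∈ F.autGroup Q) {r k : ℕ} (hr : r.Prime) (hr2 : r ≠ 2) (hk : orderOf α = r ^ k)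
    (h1 : α ≠ 1) (hM : ¬ M Q (fn α)) : Au F M Q (fn α) :=
  ⟨mp_fn le_top hα, fun _ hx => fn_mem α hx, ⟨r, k, hr, hr2, fun x hx => by
    rw [fn_iter α hx, ← hk, pow_orderOf_eq_one, fn_one hx]⟩, fun h => h1 (by
    ext x
    have h2 := h x x.2
    rw [fn_apply α x.2] at h2
    exact h2), hM⟩

theorem odd_of_ctx [Finite A] {D : Subgroup (MulAut Q)} (h : Ctx F 2 Q D) {α : MulAut Q} (hα : α ∈ F.autGroup Q)
    (hαD : α ∉ D) {a b : A} (ha : Nq Q a) (hb : Nq Q b) {ρ σ : MulAut Q} (hρ : Cj a ρ) (hσ : Cj b σ) :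
    ∃ o, Odd o ∧ (ρ * (α * σ * α⁻¹)) ^ o ∈ Inn Q := by
  have : Fact (Nat.Prime 2) := ⟨Nat.prime_two⟩
  have := finite_aut h.le
  have hne : Q ≠ ⊤ := fun he => ha.2.1 (he ▸ Subgroup.mem_top a)
  have hSD := h.autS_le hne
  have hSA := autInducedBy_le_autGroup F h.le
  have hID : Inn Q ≤ D := (inn_le_autInducedBy h.le).trans hSD
  let π := QuotientGroup.mk' (Inn Q)
  have hπ : ∀ x y : MulAut Q, π x = π y → y ∈ D → x ∈ D := fun x y h1 h2 =>
    (D.mul_mem_cancel_right h2).1 (hID (QuotientGroup.eq.1 h1)) |> D.inv_mem_iff.1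
  have hsq : ∀ {g : A} {γ : MulAut Q}, Nq Q g → Cj g γ → π γ * π γ = 1 := fun {g γ} h1 h2 => by
    rw [← map_mul, (h2.mul h2).unique (cj_conj ⟨_, h1.2.2⟩)]
    exact (QuotientGroup.eq_one_iff _).2 ⟨_, rfl⟩
  set u := α * σ * α⁻¹ with hu
  have huA : u ∈ F.autGroup Q := Subgroup.mul_mem _ (Subgroup.mul_mem _ hα (hSA hσ.mem)) (Subgroup.inv_mem _ hα)
  have hx := hsq ha hρ
  have hy : π u * π u = 1 := by
    have h1 : u * u = α * (σ * σ) * α⁻¹ := by rw [hu]; group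
    rw [← map_mul, h1, map_mul, map_mul, map_mul, hsq hb hσ, mul_one, ← map_mul, mul_inv_cancel, map_one]
  rcases Nat.even_or_odd' (orderOf (π ρ * π u)) with ⟨m, hm | hm⟩
  swap
  · refine ⟨2 * m + 1, ⟨m, rfl⟩, (QuotientGroup.eq_one_iff _).1 ?_⟩
    show π _ = 1
    rw [map_pow, map_mul, ← hm, pow_orderOf_eq_one]
  exfalso
  have hpos := orderOf_pos (π ρ * π u)
  set v := (ρ * u) ^ m with hv
  have hvA : v ∈ F.autGroup Q := Subgroup.pow_mem _ (Subgroup.mul_mem _ (hSA hρ.mem) huA) m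
  have h1 : π v = (π ρ * π u) ^ m := by rw [hv, map_pow, map_mul]
  have h2 : π v * π v = 1 := by rw [h1, ← pow_add, ← two_mul, ← hm, pow_orderOf_eq_one]
  have h3 : π v ≠ 1 := by
    rw [h1]
    exact pow_ne_one_of_lt_orderOf (by omega) (by omega)
  have h4 : π v * π ρ * (π v)⁻¹ = π ρ := by
    have h5 := dihedral_pow hx hy m
    rw [← h1, mul_inv_eq_one] at h5
    rw [inv_eq_of_mul_eq_one_right h2, h5]
  have h5 : π u * π v * (π u)⁻¹ = π v := by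
    have h6 : π ρ * π u * π v = π v * (π ρ * π u) := by rw [h1, ← pow_succ, ← pow_succ']
    have h7 : π v * π ρ = π ρ * π v := by rw [← mul_inv_eq_iff_eq_mul, h4]
    rw [← mul_assoc, h7, mul_assoc, mul_assoc, mul_right_inj] at h6
    rw [h6, mul_inv_cancel_right]
  have hvD : v ∈ D := h.mem_of_conj hvA (Subgroup.mem_top a) ha.2.1 hρ
    (hπ _ ρ (by rw [map_mul, map_mul, map_inv, h4]) (hSD hρ.mem))
  obtain ⟨k, hk⟩ := isPGroup_autInducedBy h.pg Q ⟨v * v, inn_le_autInducedBy h.le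
    ((QuotientGroup.eq_one_iff _).1 (show π _ = 1 by rw [map_mul, h2]))⟩
  obtain ⟨d, hd, h6⟩ := h.exists_conj_le (B := D ⊓ F.autGroup Q) (N := Subgroup.zpowers v) (le_inf hSD hSA)
    inf_le_right (Subgroup.zpowers_le.2 ⟨hvD, hvA⟩) (isPGroup_zpowers_of_pow (k := k + 1) (by
      rw [pow_succ', pow_mul, pow_two]
      exact congrArg Subtype.val hk))
  obtain ⟨g, hg⟩ := mem_autTop_iff.1 (h6 v (Subgroup.mem_zpowers v))
  have hgQ : g ∉ Q := fun h7 => h3 (by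
    have h8 : π (d * v * d⁻¹) = 1 := by
      rw [hg.unique (cj_conj ⟨g, h7⟩)]
      exact (QuotientGroup.eq_one_iff _).2 ⟨_, rfl⟩
    rw [map_mul, map_mul, map_inv, mul_inv_eq_one, mul_eq_left] at h8
    exact h8)
  have h7 := h.mem_of_conj (α := u * d⁻¹) (Subgroup.mul_mem _ huA (Subgroup.inv_mem _ hd.2)) (Subgroup.mem_top g) hgQ hg
    (hπ _ v (by
      have h8 : u * d⁻¹ * (d * v * d⁻¹) * (u * d⁻¹)⁻¹ = u * v * u⁻¹ := by group
      rw [h8, map_mul, map_mul, map_inv, h5]) hvD)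
  exact hαD (h.mem_of_conj hα (Subgroup.mem_top b) hb.2.1 hσ ((D.mul_mem_cancel_right (D.inv_mem hd.1)).1 h7))

theorem fail_aux [Finite A] (hA : IsPGroup 2 A) (hF : F.IsSaturated 2) (hM : Closed F M) {P : Subgroup A} {g : A → A}
    (hg : Mp F P g) (hn : ¬ M P g) : (∃ f, Au F M ⊤ f) ∨
      ((∀ f, Mp F ⊤ f → M ⊤ f) ∧ ∃ (Q : Subgroup A) (H : Subgroup (MulAut Q)), Failure F 2 M Q H) := by
  have : Fact (Nat.Prime 2) := ⟨Nat.prime_two⟩
  refine (first_failure' (hA.to_subgroup ⊤) hF hM hg hn).imp_left fun ⟨α, hα, r, k, hr, hr2, ho, h1, _⟩ =>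
    ⟨_, au_fn hα hr hr2 ho (fun h2 => h1 ?_) h1⟩
  refine hM.congr _ _ _ (mp_conj F le_rfl (Subgroup.mem_top 1)) (hM.conj _ le_rfl 1 (Subgroup.mem_top 1)) fun x hx => ?_
  rw [h2, fn_one hx, one_mul, inv_one, mul_one]

theorem essF_of_ctx [Finite A] {D : Subgroup (MulAut Q)} (h : Ctx F 2 Q D) (hne : ¬ F.autGroup Q ≤ D)
    (hM : ∀ α ∈ F.autGroup Q, M Q (fn α) → α ∈ D) : EssF F M Q := by
  intro t ht
  obtain ⟨y, hy, r, α, hd⟩ := h.exists_dih hne (Subgroup.mem_top t) ht.1 ht.2.1 ht.2.2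
  obtain ⟨k, hk⟩ := hd.ord
  refine ⟨y * t, fn α, by rwa [mul_inv_cancel_right], au_fn hd.mem hd.prime hd.ne_two hk
    (fun h1 => hd.notMem (h1 ▸ D.one_mem)) fun h1 => hd.notMem (hM α hd.mem h1),
    h.fn, hd.tN, hd.tsq, hd.inv, hd.fix, fun a b ha hb => ?_⟩
  obtain ⟨ρ, hρ⟩ := exists_cj ha.1
  obtain ⟨σ, hσ⟩ := exists_cj hb.1
  obtain ⟨o, ho, c, hc⟩ := odd_of_ctx h hd.mem hd.notMem ha hb hρ hσ
  refine ⟨fn (ρ * (α * σ * α⁻¹)), fun x hx => ?_, le_rfl, fun x hx => fn_mem _ hx, fun x hx y hy => fn_map_mul _ hx hy,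
    fun x hx => fn_mem _ hx, o, ho, c, c.2, fun x hx => ?_⟩
  · rw [← fn_mul _ _ hx, mul_assoc ρ, inv_mul_cancel_right, fn_mul _ _ hx, fn_mul _ _ hx, hσ.fn hx,
      hρ.fn (fn_mem _ (hb.1 x hx))]
  · rw [fn_iter _ hx, ← hc]
    exact (cj_conj c).fn hx

theorem exists_fail [Finite A] (hA : IsPGroup 2 A) (hF : F.IsSaturated 2) (hM : Closed F M) {P : Subgroup A} {g : A → A}
    (hg : Mp F P g) (hn : ¬ M P g) : (∃ f, Au F M ⊤ f) ∨ ∃ Q, F.IsEssential 2 Q ∧ EssF F M Q := by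
  refine (fail_aux hA hF hM hg hn).imp_right fun ⟨_, Q, H, h⟩ => ⟨Q, h.ess, ?_⟩
  exact essF_of_ctx (h.ctx (hA.to_subgroup ⊤) hF) h.not_le fun α hα h1 => (h.mem α).2 ⟨hα, h1⟩

theorem closed_inn0 (F : FusionSystem (⊤ : Subgroup A)) : Closed F Inn0 := by
  refine ⟨fun P f g _ ⟨s, h⟩ he => ⟨s, fun x hx => (he x hx).trans (h x hx)⟩,
    fun P Q f g _ _ ⟨s, h1⟩ ⟨t, h2⟩ hPQ => ⟨t * s, fun x hx => ?_⟩,
    fun P R f g _ ⟨s, h⟩ _ he _ => ⟨s⁻¹, fun y hy => ?_⟩, fun P _ s _ => ⟨s, fun _ _ => rfl⟩⟩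
  · show g (f x) = _
    rw [h2 _ (hPQ x hx), h1 x hx]
    group
  · obtain ⟨x, hx, rfl, h2⟩ := he y hy
    rw [h2, h x hx]
    group

theorem essF_of_ess [Finite A] (hA : IsPGroup 2 A) (hF : F.IsSaturated 2) (hQ : F.IsEssential 2 Q) : EssF F Inn0 Q := by
  have : Fact (Nat.Prime 2) := ⟨Nat.prime_two⟩
  obtain ⟨D, h1, -, h2⟩ := exists_ctx (hA.to_subgroup ⊤) hF hQ
  refine essF_of_ctx h1 h2 fun α _ ⟨s, h3⟩ => h1.autS_le (ne_of_isEssential (hA.to_subgroup ⊤) hF hQ) (Cj.mem (g := s) ?_)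
  intro x
  rw [← h3 x x.2, fn_apply α x.2]

/-! ### T4: the level lemma -/

theorem fn_inv_mem [Finite A] {α : MulAut Q} {K : Subgroup A} (hK : K ≤ Q) (h : ∀ x ∈ K, fn α x ∈ K) :
    ∀ x ∈ K, fn α⁻¹ x ∈ K := fun x hx => by
  have h1 := iff_of_mapsTo (β := α) (K := K.subgroupOf Q) (fun y hy => by
    have h2 := h y hy
    rwa [fn_apply α y.2] at h2) (α⁻¹ ⟨x, hK hx⟩)
  rw [MulAut.apply_inv_self] at h1
  rw [fn_apply _ (hK hx)]
  exact h1.1 hx

theorem level [Finite A] (hA : IsPGroup 2 A) (hF : F.IsSaturated 2) (hQ : F.IsEssential 2 Q) {Z : ℕ → Subgroup A}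
    {z : ℕ → A} {n : ℕ} (h0 : Z 0 = ⊥) (hn : Z n = ⊤)
    (hs : ∀ i, i < n → ∀ x, x ∈ Z (i + 1) ↔ x ∈ Z i ∨ (z i)⁻¹ * x ∈ Z i)
    (hc : ∀ i, i < n → ∀ g, g * z i * g⁻¹ * (z i)⁻¹ ∈ Z i) :
    Q ≠ ⊤ ∧ ∃ i, i < n ∧ ∃ v, ∀ w, w⁻¹ * v ∈ Z i →
      w ∉ Z (i + 1) ∧ w * w ∈ Z i ∧ ∀ g, g ∈ Q ↔ (g * w)⁻¹ * (w * g) ∈ Z i := by
  have : Fact (Nat.Prime 2) := ⟨Nat.prime_two⟩
  have hS := hA.to_subgroup ⊤
  have hne := ne_of_isEssential hS hF hQ
  obtain ⟨D, h, -, hD⟩ := exists_ctx hS hF hQ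
  have hle : ∀ i, i < n → Z i ≤ Z (i + 1) := fun i hi x hx => (hs i hi x).2 (Or.inl hx)
  have hz : ∀ i, i < n → z i ∈ Z (i + 1) := fun i hi => (hs i hi _).2 (Or.inr (by
    rw [inv_mul_cancel]; exact (Z i).one_mem))
  have hcen : ∀ i, i < n → (∀ g, ∀ x ∈ Z i, g * x * g⁻¹ ∈ Z i) → ∀ g, ∀ x ∈ Z (i + 1), g * x * g⁻¹ * x⁻¹ ∈ Z i :=
    fun i hi h1 g x hx => by
      rcases (hs i hi x).1 hx with h2 | h2
      · exact (Z i).mul_mem (h1 g x h2) ((Z i).inv_mem h2)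
      · have h3 : g * x * g⁻¹ * x⁻¹ = g * z i * g⁻¹ * (z i)⁻¹ *
            (z i * (g * ((z i)⁻¹ * x) * g⁻¹ * ((z i)⁻¹ * x)⁻¹) * (z i)⁻¹) := by group
        rw [h3]
        exact (Z i).mul_mem (hc i hi g) (h1 _ _ ((Z i).mul_mem (h1 g _ h2) ((Z i).inv_mem h2)))
  have hnor : ∀ i, i ≤ n → ∀ g, ∀ x ∈ Z i, g * x * g⁻¹ ∈ Z i := fun i => by
    induction i with
    | zero => exact fun _ g x hx => by rw [h0, Subgroup.mem_bot] at hx ⊢; rw [hx, mul_one, mul_inv_cancel]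
    | succ i ih =>
      intro hi g x hx
      have h1 := (Z (i + 1)).mul_mem (hle i hi (hcen i hi (ih (by omega)) g x hx)) hx
      rwa [inv_mul_cancel_right] at h1
  let p : ℕ → Prop := fun j => ∃ α ∈ F.autGroup Q, α ∉ D ∧ ∀ l, l ≤ j → Z l ≤ Q ∧ ∀ x ∈ Z l, fn α x ∈ Z l
  have hp0 : p 0 := by
    obtain ⟨α, hα, hαD⟩ := SetLike.not_le_iff_exists.1 hD
    refine ⟨α, hα, hαD, fun l hl => ?_⟩
    rw [Nat.le_zero.1 hl, h0]
    exact ⟨bot_le, fun x hx => by rw [Subgroup.mem_bot.1 hx, fn_map_one]; exact Subgroup.one_mem _⟩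
  obtain ⟨i, hi, ⟨α, hα, hαD, h1⟩, h2⟩ : ∃ i, i < n ∧ p i ∧ ¬ p (i + 1) := by
    by_contra h1
    have h2 : ∀ i, i ≤ n → p i := fun i => by
      induction i with
      | zero => exact fun _ => hp0
      | succ i ih => exact fun hi => by_contra fun h3 => h1 ⟨i, hi, ih (by omega), h3⟩
    obtain ⟨_, -, -, h3⟩ := h2 n le_rfl
    exact hne (top_le_iff.1 (hn ▸ (h3 n le_rfl).1))
  have hZQ := (h1 i le_rfl).1
  have hzx : ∀ x, z i * x * (z i)⁻¹ * x⁻¹ ∈ Z i := fun x => by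
    have h3 := (Z i).inv_mem (hc i hi x)
    rwa [show (x * z i * x⁻¹ * (z i)⁻¹)⁻¹ = z i * x * (z i)⁻¹ * x⁻¹ by group] at h3
  have hzQ : z i ∈ Q := by
    refine h.mem_of_chain hα hαD (Subgroup.mem_top _) (K := fun l => if l ≤ i then Z l else Q) (m := i + 1)
      (fun l => ?_) (if_neg (by omega)) (by rw [if_pos (Nat.zero_le i), h0]; exact nonGen_bot Q) (fun l => ?_)
      (fun l => ?_) fun l hl x => ?_
    · split_ifs with h3
      exacts [(h1 l h3).1, le_rfl]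
    · split_ifs with h3
      exacts [(h1 l h3).2, fun x hx => fn_mem α hx]
    · split_ifs with h3
      · exact hnor l (by omega) _
      · intro x hx
        have h4 := Q.mul_mem (hZQ (hzx x)) hx
        rwa [inv_mul_cancel_right] at h4
    · rw [if_pos (show l ≤ i by omega)]
      split_ifs with h3
      · exact hcen l (by omega) (hnor l (by omega)) _ x
      · rw [show l = i by omega]
        exact fun _ => hzx x
  have key : ∀ β ∈ F.autGroup Q, (∀ l, l ≤ i → ∀ x ∈ Z l, fn β x ∈ Z l) → fn β (z i) ∈ Z (i + 1) → β ∈ D :=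
    fun β hβ h3 h4 => by
      by_contra h5
      refine h2 ⟨β, hβ, h5, fun l hl => ?_⟩
      by_cases h6 : l ≤ i
      · exact ⟨(h1 l h6).1, h3 l h6⟩
      rw [show l = i + 1 by omega]
      have h7 : ∀ x ∈ Z (i + 1), x ∈ Q ∧ fn β x ∈ Z (i + 1) := fun x hx => by
        rcases (hs i hi x).1 hx with h7 | h7
        · exact ⟨hZQ h7, hle i hi (h3 i le_rfl x h7)⟩
        · rw [← mul_inv_cancel_left (z i) x, fn_map_mul β hzQ (hZQ h7)]
          exact ⟨Q.mul_mem hzQ (hZQ h7), Subgroup.mul_mem _ h4 (hle i hi (h3 i le_rfl _ h7))⟩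
      exact ⟨fun x hx => (h7 x hx).1, fun x hx => (h7 x hx).2⟩
  have hN : (Z i).Normal := ⟨fun x hx g => hnor i hi.le g x hx⟩
  let π := QuotientGroup.mk' (Z i)
  have hπ : ∀ x y, π x = π y ↔ x⁻¹ * y ∈ Z i := fun x y => QuotientGroup.eq
  have hπ1 : ∀ x, π x = 1 ↔ x ∈ Z i := fun x => QuotientGroup.eq_one_iff x
  have hαi : ∀ l, l ≤ i → ∀ x ∈ Z l, fn α⁻¹ x ∈ Z l := fun l hl => fn_inv_mem (h1 l hl).1 (h1 l hl).2
  have hQC : ∀ g ∈ Q, π g * π (fn α (z i)) = π (fn α (z i)) * π g := fun g hg => by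
    have h3 := fn_mem α⁻¹ hg
    have h4 := (h1 i le_rfl).2 _ (hc i hi (fn α⁻¹ g))
    rw [fn_map_mul α (Q.mul_mem (Q.mul_mem h3 hzQ) (Q.inv_mem h3)) (Q.inv_mem hzQ),
      fn_map_mul α (Q.mul_mem h3 hzQ) (Q.inv_mem h3), fn_map_mul α h3 hzQ, fn_map_inv α h3, fn_map_inv α hzQ,
      fn_fn_inv α hg, ← hπ1, map_mul, map_mul, map_mul, map_inv, map_inv, mul_inv_eq_one, mul_inv_eq_iff_eq_mul] at h4
    exact h4
  refine ⟨hne, i, hi, fn α (z i), fun w hw => ⟨fun h3 => hαD (key α hα (fun l hl => (h1 l hl).2) ?_), ?_, fun g => ?_⟩⟩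
  · rw [← mul_inv_cancel_left w (fn α (z i))]
    exact Subgroup.mul_mem _ h3 (hle i hi hw)
  · have h3 : z i * z i ∈ Z i := by
      rcases (hs i hi _).1 (Subgroup.mul_mem _ (hz i hi) (hz i hi)) with h3 | h3
      · exact h3
      · rw [inv_mul_cancel_left] at h3
        exact Subgroup.mul_mem _ h3 h3
    rw [← hπ1, map_mul, (hπ _ _).2 hw, ← map_mul, hπ1, ← fn_map_mul α hzQ hzQ]
    exact (h1 i le_rfl).2 _ h3
  rw [← hπ, map_mul, map_mul, (hπ _ _).2 hw]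
  refine ⟨hQC g, fun hg => by_contra fun hgQ => ?_⟩
  let C : Subgroup A := (Subgroup.centralizer {π (fn α (z i))}).comap π
  have hC : ∀ g, g ∈ C ↔ π g * π (fn α (z i)) = π (fn α (z i)) * π g := fun g =>
    Subgroup.mem_centralizer_singleton_iff
  obtain ⟨c, hc1, hc2⟩ := SetLike.exists_of_lt (lt_inf_normalizer hS (P := C) (fun x hx => (hC x).2 (hQC x hx)) le_top
    fun he => hgQ (he ▸ (hC g).2 hg))
  obtain ⟨γ, hγ⟩ := exists_conjAut hc1.2
  have hγ' : Cj c γ := hγ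
  have hγA := autInducedBy_le_autGroup F h.le hγ'.mem
  have hαA := (F.autGroup Q).inv_mem hα
  refine hαD (D.inv_mem_iff.1 (h.mem_of_conj hαA (Subgroup.mem_top c) hc2 hγ (key _ (Subgroup.mul_mem _
    (Subgroup.mul_mem _ hαA hγA) (Subgroup.inv_mem _ hαA)) (fun l hl x hx => ?_) ?_)))
  · have h3 := (h1 l hl).1 hx
    rw [inv_inv, fn_mul _ _ h3, fn_mul _ _ (fn_mem _ h3), hγ'.fn (fn_mem _ h3)]
    exact hαi l hl _ (hnor l (by omega) _ _ ((h1 l hl).2 x hx))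
  · have h3 : (fn α (z i))⁻¹ * (c * fn α (z i) * c⁻¹) ∈ Z i := by
      rw [← hπ, map_mul, map_mul, (hC c).1 hc1.1, map_inv, mul_inv_cancel_right]
    rw [inv_inv, fn_mul _ _ hzQ, fn_mul _ _ (fn_mem _ hzQ), hγ'.fn (fn_mem _ hzQ),
      ← mul_inv_cancel_left (fn α (z i)) (c * _ * _), fn_map_mul _ (fn_mem _ hzQ) (hZQ h3), fn_inv_fn α hzQ]
    exact Subgroup.mul_mem _ (hz i hi) (hle i hi (hαi i le_rfl _ h3))

/-! ### T5: chains -/

theorem mem_of_gens' {P K : Subgroup A} {X : Set A} (hX : ∀ x ∈ X, x ∈ P) {φ : A → A} (h1 : Mp F P φ)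
    (h : ∀ x ∈ X, φ x ∈ K) : ∀ x ∈ Subgroup.closure X, φ x ∈ K := fun x hx => by
  have h2 : Subgroup.closure X ≤ P := (Subgroup.closure_le P).2 hX
  induction hx using Subgroup.closure_induction with
  | mem x hx => exact h x hx
  | one => rw [h1.one]; exact K.one_mem
  | mul x y hx hy a b => rw [h1.mul (h2 hx) (h2 hy)]; exact K.mul_mem a b
  | inv x hx a => rw [h1.inv (h2 hx)]; exact K.inv_mem a

theorem sq_mem {a : A} (ha : a ∈ Q) : a * a ∈ Sq Q := Subgroup.subset_closure ⟨a, ha, rfl⟩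

theorem sq_le (Q : Subgroup A) : Sq Q ≤ Q := (Subgroup.closure_le Q).2 fun _ ⟨_, ha, h⟩ => h ▸ Q.mul_mem ha ha

theorem comm_mem_sq {a b : A} (ha : a ∈ Q) (hb : b ∈ Q) : a * b * a⁻¹ * b⁻¹ ∈ Sq Q := by
  have h1 : a * b * a⁻¹ * b⁻¹ = a * b * (a * b) * (b⁻¹ * a⁻¹ * b * (b⁻¹ * a⁻¹ * b)) * (b⁻¹ * b⁻¹) := by group
  rw [h1]
  exact Subgroup.mul_mem _ (Subgroup.mul_mem _ (sq_mem (Q.mul_mem ha hb))
    (sq_mem (Q.mul_mem (Q.mul_mem (Q.inv_mem hb) (Q.inv_mem ha)) hb))) (sq_mem (Q.inv_mem hb))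

theorem conj_mem_of_sq {K : Subgroup A} (h1 : Sq Q ≤ K) (h2 : K ≤ Q) {a b : A} (ha : a ∈ Q) (hb : b ∈ K) :
    a * b * a⁻¹ ∈ K := by
  have h3 := K.mul_mem (h1 (comm_mem_sq ha (h2 hb))) hb
  rwa [inv_mul_cancel_right] at h3

/-- The elements on which a multiplicative map is trivial modulo `K`. -/
theorem triv_gens {K : Subgroup A} (h1 : Sq Q ≤ K) (h2 : K ≤ Q) {g : A → A} (hg : ∀ x ∈ Q, g x ∈ Q)
    (hm : ∀ x ∈ Q, ∀ y ∈ Q, g (x * y) = g x * g y) {X : Set A} (hX : ∀ x ∈ X, x ∈ Q) (h : ∀ x ∈ X, g x * x⁻¹ ∈ K) :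
    ∀ x ∈ Subgroup.closure X, g x * x⁻¹ ∈ K := fun x hx => by
  have h3 : Subgroup.closure X ≤ Q := (Subgroup.closure_le Q).2 hX
  have h4 : g 1 = 1 := by
    have h4 := hm 1 Q.one_mem 1 Q.one_mem
    rw [mul_one] at h4
    exact left_eq_mul.1 h4
  induction hx using Subgroup.closure_induction with
  | mem x hx => exact h x hx
  | one => rw [h4, inv_one, mul_one]; exact K.one_mem
  | mul x y hx hy a b =>
    rw [hm x (h3 hx) y (h3 hy), show g x * g y * (x * y)⁻¹ = g x * (g y * y⁻¹) * (g x)⁻¹ * (g x * x⁻¹) by group]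
    exact K.mul_mem (conj_mem_of_sq h1 h2 (hg x (h3 hx)) b) a
  | inv x hx a =>
    have h5 := hm x (h3 hx) _ (Q.inv_mem (h3 hx))
    rw [mul_inv_cancel, h4] at h5
    rw [eq_inv_of_mul_eq_one_right h5.symm, show (g x)⁻¹ * x⁻¹⁻¹ = x⁻¹ * (g x * x⁻¹)⁻¹ * x⁻¹⁻¹ by group]
    exact conj_mem_of_sq h1 h2 (Q.inv_mem (h3 hx)) (K.inv_mem a)

theorem Au.exists_fix [Finite A] (hA : IsPGroup 2 A) (h : Au F M Q f) {K : Subgroup A} (hKQ : K ≤ Q)
    (hK : ∀ x ∈ K, f x ∈ K) {y : A} (hy : y ∈ Q) (h1 : f y * y⁻¹ ∈ K) : ∃ w, w * y⁻¹ ∈ K ∧ f w = w := by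
  have : Fact (Nat.Prime 2) := ⟨Nat.prime_two⟩
  obtain ⟨r, k, hr, hr2, h2⟩ := h.ord
  refine exists_fixed_of_iterate {w | w * y⁻¹ ∈ K} f (fun w hw => ?_) hr (k := k)
    (fun w hw => h2 w ((Q.mul_mem_cancel_right (Q.inv_mem hy)).1 (hKQ hw)))
    (by rw [card_coset]; exact not_dvd_card_of_isPGroup hr hr2 (hA.to_subgroup K))
  show f w * y⁻¹ ∈ K
  rw [← inv_mul_cancel_right w y, h.mp.mul (hKQ hw) hy, mul_assoc]
  exact K.mul_mem (hK _ hw) h1

theorem sup_sq_eq (Y : Set A) (Q : Subgroup A) : Subgroup.closure Y ⊔ Sq Q = Subgroup.closure (Y ∪ Sq Q) := by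
  rw [Subgroup.closure_union, Subgroup.closure_eq]

theorem Au.iter_mem (h : Au F M Q f) {K : Subgroup A} (hK : ∀ x ∈ K, f x ∈ K) {x : A} (hx : x ∈ Q) (h1 : f x ∈ K) :
    x ∈ K := by
  obtain ⟨r, k, hr, -, h2⟩ := h.ord
  obtain ⟨m, hm⟩ := Nat.exists_eq_succ_of_ne_zero (pow_ne_zero k hr.ne_zero)
  rw [← h2 x hx, hm, Function.iterate_succ_apply]
  clear hm
  induction m with
  | zero => exact h1
  | succ m ih => rw [Function.iterate_succ_apply']; exact hK _ ih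

theorem Au.tr_sq (h : Au F M Q f) : Tr Q f (Sq Q) := by
  have h1 : ∀ x ∈ Sq Q, f x ∈ Sq Q := mem_of_gens' (X := {y | ∃ a ∈ Q, y = a * a})
    (fun _ ⟨a, ha, h2⟩ => h2 ▸ Q.mul_mem ha ha) h.mp
    fun _ ⟨a, ha, h2⟩ => by rw [h2, h.mp.mul ha ha]; exact sq_mem (h.mem a ha)
  exact ⟨le_rfl, sq_le Q, h1, fun x hx => Subgroup.mul_mem _ (h1 x hx) (Subgroup.inv_mem _ hx)⟩

/-- `Y` generates the new subgroup `K'` modulo the squares. -/
theorem Tr.step [Finite A] (hA : IsPGroup 2 A) (h : Au F M Q f) {K K' : Subgroup A} (hK : Tr Q f K) (hle : K ≤ K')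
    {Y : Set A} (hY : K' = Subgroup.closure Y ⊔ Sq Q) (hQ : ∀ y ∈ Y, y ∈ Q)
    (hi : ∀ y ∈ Y, y ∈ K ∨ (f y ∈ K' ∧ f y * y⁻¹ ∈ K)) : Tr Q f K' := by
  have h1 := h.tr_sq
  have h2 : ∀ y ∈ Y ∪ Sq Q, y ∈ Q := fun y hy => hy.elim (hQ y) fun a => sq_le Q a
  rw [sup_sq_eq] at hY
  refine ⟨hK.ge.trans hle, hY ▸ (Subgroup.closure_le Q).2 h2, fun x hx => mem_of_gens' h2 h.mp (fun y hy => ?_) x (hY ▸ hx),
    fun x hx => triv_gens le_rfl (sq_le Q) h.mem (fun _ a _ b => h.mp.mul a b) h2 (fun y hy => ?_) x (hY ▸ hx)⟩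
  · rcases hy with hy | hy
    · exact (hi y hy).elim (fun a => hle (hK.inv y a)) fun a => a.1
    · exact hle (hK.ge (h1.inv y hy))
  · rcases hy with hy | hy
    · rcases hi y hy with a | a
      · exact hK.triv y a
      · obtain ⟨w, h3, h4⟩ := h.exists_fix hA hK.le hK.inv (hQ y hy) a.2
        have h5 := hK.le h3
        have h6 : f (w * y⁻¹) * f y = w := by rw [← h.mp.mul h5 (hQ y hy), inv_mul_cancel_right, h4]
        rw [eq_inv_mul_of_mul_eq h6, show (f (w * y⁻¹))⁻¹ * w * y⁻¹ =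
          (w * y⁻¹)⁻¹ * (f (w * y⁻¹) * (w * y⁻¹)⁻¹)⁻¹ * (w * y⁻¹)⁻¹⁻¹ by group]
        exact conj_mem_of_sq le_rfl (sq_le Q) (Q.inv_mem h5) (Subgroup.inv_mem _ (hK.triv _ h3))
    · exact h1.triv y hy

theorem Tr.step_two [Finite A] (hA : IsPGroup 2 A) (h : Au F M Q f) {K K' : Subgroup A} (hK : Tr Q f K) (hle : K ≤ K')
    {Y : Set A} (hY : K' = Subgroup.closure Y ⊔ Sq Q) (hQ : ∀ y ∈ Y, y ∈ Q) {x : A}
    (hi : ∀ y ∈ Y, y ∈ K ∨ (f y ∈ K' ∧ y = x)) : Tr Q f K' := by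
  refine hK.step hA h hle hY hQ fun y hy => ?_
  rcases hi y hy with a | ⟨a, rfl⟩
  · exact Or.inl a
  have hyQ := hQ y hy
  have h1 : ∀ w ∈ Subgroup.closure (Y ∪ Sq Q), w ∈ K ∨ w * y⁻¹ ∈ K := fun w hw => by
    induction hw using Subgroup.closure_induction with
    | mem w hw =>
      rcases hw with hw | hw
      · exact (hi w hw).imp_right fun b => by rw [b.2, mul_inv_cancel]; exact K.one_mem
      · exact Or.inl (hK.ge hw)
    | one => exact Or.inl K.one_mem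
    | mul u w _ _ b c =>
      rcases b with b | b <;> rcases c with c | c
      · exact Or.inl (K.mul_mem b c)
      · exact Or.inr (mul_assoc u w _ ▸ K.mul_mem b c)
      · rw [show u * w * y⁻¹ = u * y⁻¹ * (y * w * y⁻¹) by group]
        exact Or.inr (K.mul_mem b (conj_mem_of_sq hK.ge hK.le hyQ c))
      · rw [show u * w = u * y⁻¹ * (y * (w * y⁻¹) * y⁻¹) * (y * y) by group]
        exact Or.inl (K.mul_mem (K.mul_mem b (conj_mem_of_sq hK.ge hK.le hyQ c)) (hK.ge (sq_mem hyQ)))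
    | inv w _ b =>
      rcases b with b | b
      · exact Or.inl (K.inv_mem b)
      · rw [show w⁻¹ * y⁻¹ = y⁻¹ * (w * y⁻¹)⁻¹ * y⁻¹⁻¹ * (y⁻¹ * y⁻¹) by group]
        exact Or.inr (K.mul_mem (conj_mem_of_sq hK.ge hK.le (Q.inv_mem hyQ) (K.inv_mem b))
          (hK.ge (sq_mem (Q.inv_mem hyQ))))
  rw [sup_sq_eq] at hY
  exact (h1 _ (hY ▸ a)).imp (h.iter_mem hK.inv hyQ) fun b => ⟨a, b⟩

/-- `t` lies in the coset of `τ`. -/
theorem Tr.step_inv [Finite A] (hA : IsPGroup 2 A) (h : Au F M Q f) (hd : Di F Q τ f) {t : A} (ht : τ * t⁻¹ ∈ Q)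
    {K K' : Subgroup A} (hK : Tr Q f K) (hle : K ≤ K') {Y : Set A} (hY : K' = Subgroup.closure Y ⊔ Sq Q)
    (hQ : ∀ y ∈ Y, y ∈ Q) (hi : ∀ y ∈ Y, (y ∈ K ∨ f y ∈ K') ∧ t * y * t⁻¹ * y⁻¹ ∈ K) : Tr Q f K' := by
  have h2 : ∀ y ∈ Y ∪ Sq Q, y ∈ Q := fun y hy => hy.elim (hQ y) fun a => sq_le Q a
  have hY' := hY.trans (sup_sq_eq Y Q)
  have hKQ : K' ≤ Q := hY' ▸ (Subgroup.closure_le Q).2 h2
  have h3 : ∀ x ∈ K', f x ∈ K' := fun x hx => mem_of_gens' h2 h.mp (fun y hy => hy.elim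
    (fun a => (hi y a).1.elim (fun b => hle (hK.inv y b)) id) fun a => hle (hK.inv y (hK.ge a))) x (hY' ▸ hx)
  have h4 : ∀ x ∈ K', τ * x * τ⁻¹ * x⁻¹ ∈ K := fun x hx => by
    refine triv_gens (g := fun x => τ * x * τ⁻¹) hK.ge hK.le hd.tN (fun _ _ _ _ => by group) h2 (fun y hy => ?_) x
      (hY' ▸ hx)
    rcases hy with hy | hy
    · show τ * y * τ⁻¹ * y⁻¹ ∈ K
      rw [show τ * y * τ⁻¹ * y⁻¹ = τ * t⁻¹ * (t * y * t⁻¹ * y⁻¹) * (τ * t⁻¹)⁻¹ *
        (τ * t⁻¹ * y * (τ * t⁻¹)⁻¹ * y⁻¹) by group]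
      exact K.mul_mem (conj_mem_of_sq hK.ge hK.le ht (hi y hy).2) (hK.ge (comm_mem_sq ht (hQ y hy)))
    · refine hK.ge (Subgroup.mul_mem _ ?_ (Subgroup.inv_mem _ hy))
      refine mem_of_gens' (X := {y | ∃ a ∈ Q, y = a * a}) (fun _ ⟨a, ha, h5⟩ => h5 ▸ Q.mul_mem ha ha) (mp_conj F le_top (Subgroup.mem_top τ))
        (fun _ ⟨a, ha, h5⟩ => ?_) y hy
      rw [h5, show τ * (a * a) * τ⁻¹ = τ * a * τ⁻¹ * (τ * a * τ⁻¹) by group]
      exact sq_mem (hd.tN a ha)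
  have h5 : ∀ x ∈ K', f (f x) * x⁻¹ ∈ K := fun x hx => by
    have a1 := h4 _ (h3 x hx)
    have a2 := hd.inv x (hKQ hx)
    rw [← inv_mul_cancel_right (τ * f x * τ⁻¹) (f x), h.mp.mul (hK.le a1) (hKQ (h3 x hx))] at a2
    rw [eq_inv_mul_of_mul_eq a2, mul_assoc]
    exact K.mul_mem (K.inv_mem (hK.inv _ a1)) (h4 x hx)
  have h6 : ∀ m, ∀ x ∈ K', f^[2 * m] x * x⁻¹ ∈ K ∧ f^[2 * m] x ∈ K' := fun m x hx => by
    induction m with
    | zero => exact ⟨by simp, hx⟩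
    | succ m ih =>
      rw [Nat.mul_succ, Function.iterate_succ_apply', Function.iterate_succ_apply']
      refine ⟨?_, h3 _ (h3 _ ih.2)⟩
      have a1 := K.mul_mem (h5 _ ih.2) ih.1
      rwa [mul_assoc, inv_mul_cancel_left] at a1
  obtain ⟨r, k, hr, hr2, h7⟩ := h.ord
  obtain ⟨m, hm⟩ : Odd (r ^ k) := (hr.odd_of_ne_two hr2).pow
  refine hK.step hA h hle hY hQ fun y hy => Or.inr ?_
  have hy' : y ∈ K' := hY' ▸ Subgroup.subset_closure (Or.inl hy)
  refine ⟨h3 y hy', ?_⟩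
  have a1 := h7 y (hQ y hy)
  have a2 := (h6 m y hy').1
  rw [hm] at a1
  replace a1 : f (f^[2 * m] y) = y := (Function.iterate_succ_apply' f (2 * m) y).symm.trans a1
  rw [← inv_mul_cancel_right (f^[2 * m] y) y, h.mp.mul (hK.le a2) (hQ y hy)] at a1
  rw [eq_inv_mul_of_mul_eq a1, mul_inv_cancel_right]
  exact K.inv_mem (hK.inv _ a2)

theorem Tr.false [Finite A] (hA : IsPGroup 2 A) (h : Au F M Q f) {K : Subgroup A} (hK : Tr Q f K) (hQ : Q ≤ K) :
    False := by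
  let E : Subgroup A :=
    { carrier := {x | x ∈ Q ∧ f x = x}
      one_mem' := ⟨Q.one_mem, h.mp.one⟩
      mul_mem' := fun a b => ⟨Q.mul_mem a.1 b.1, by rw [h.mp.mul a.1 b.1, a.2, b.2]⟩
      inv_mem' := fun a => ⟨Q.inv_mem a.1, by rw [h.mp.inv a.1, a.2]⟩ }
  refine h.nid fun x hx => (nonGen_sq (hA.to_subgroup Q) E (fun _ a => a.1) (fun y hy => ?_) hx).2
  obtain ⟨w, h1, h2⟩ := h.exists_fix hA (sq_le Q) h.tr_sq.inv hy (hK.triv y (hQ hy))
  rw [show y = (w * y⁻¹)⁻¹ * w by group]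
  exact Subgroup.mul_mem _ (Subgroup.mem_sup_right ((Sq Q).inv_mem h1))
    (Subgroup.mem_sup_left ⟨(Q.mul_mem_cancel_right (Q.inv_mem hy)).1 (sq_le Q h1), h2⟩)

/-! ### T6: violations and extensions, with generators -/

theorem eq_of_gens' {P : Subgroup A} {X : Set A} (hP : P = Subgroup.closure X) {φ ψ : A → A} (h1 : Mp F P φ)
    (h2 : Mp F P ψ) (h : ∀ x ∈ X, φ x = ψ x) : ∀ x ∈ P, φ x = ψ x := fun x hx => by
  subst hP
  induction hx using Subgroup.closure_induction with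
  | mem x hx => exact h x hx
  | one => rw [h1.one, h2.one]
  | mul x y hx hy a b => rw [h1.mul hx hy, h2.mul hx hy, a, b]
  | inv x hx a => rw [h1.inv hx, h2.inv hx, a]

theorem conj_gens [Finite A] {X Y : Set A} {U : Subgroup A} (hU : U = Subgroup.closure X) {g : A → A} (hg : Mp F U g)
    (h : ∀ s ∈ Y, (∀ x ∈ X, s * x * s⁻¹ ∈ U) ∧ ∃ s', ∀ x ∈ X, s' * g x = g (s * x * s⁻¹) * s') :
    ∀ s ∈ Subgroup.closure Y, (∀ x ∈ U, s * x * s⁻¹ ∈ U) ∧ ∃ s', ∀ x ∈ U, g (s * x * s⁻¹) = s' * g x * s'⁻¹ :=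
  fun s hs => by
  induction hs using Subgroup.closure_induction with
  | mem s hs =>
    obtain ⟨h1, s', h2⟩ := h s hs
    have h3 : ∀ x ∈ U, s * x * s⁻¹ ∈ U := fun x hx => mem_of_gens' (P := U) (fun _ a => hU ▸ Subgroup.subset_closure a)
      (mp_conj F le_top (Subgroup.mem_top s)) h1 x (hU ▸ hx)
    exact ⟨h3, s', eq_of_gens' hU ((mp_conj F le_top (Subgroup.mem_top s)).comp hg h3)
      (hg.comp (mp_conj F le_rfl (Subgroup.mem_top s')) fun _ _ => Subgroup.mem_top _)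
      fun x hx => by rw [h2 x hx, mul_inv_cancel_right]⟩
  | one => exact ⟨fun x hx => by simpa using hx, 1, fun x _ => by simp⟩
  | mul s t _ _ a b =>
    obtain ⟨a1, s', a2⟩ := a
    obtain ⟨b1, t', b2⟩ := b
    have h1 : ∀ x, s * t * x * (s * t)⁻¹ = s * (t * x * t⁻¹) * s⁻¹ := fun x => by group
    exact ⟨fun x hx => h1 x ▸ a1 _ (b1 x hx), s' * t', fun x hx => by rw [h1, a2 _ (b1 x hx), b2 x hx]; group⟩
  | inv s _ a =>
    obtain ⟨a1, s', a2⟩ := a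
    have h1 : ∀ x ∈ U, s⁻¹ * x * s⁻¹⁻¹ ∈ U := fun x hx =>
      (Subgroup.mem_normalizer_iff.1 (Subgroup.inv_mem _ (Subgroup.mem_normalizer_fintype a1)) x).1 hx
    refine ⟨h1, s'⁻¹, fun x hx => ?_⟩
    have h2 := a2 _ (h1 x hx)
    rw [show s * (s⁻¹ * x * s⁻¹⁻¹) * s⁻¹ = x by group] at h2
    rw [h2]
    group

theorem v1_gens [Finite A] (hA : IsPGroup 2 A) (hF : F.IsSaturated 2) {X Y : Set A} {T : Subgroup A}
    (hT : T = Subgroup.closure X) (hfn : F.IsFullyNormalized T) {g : A → A} (hg : Mp F T g) (hX : ∀ x ∈ X, g x ∈ T)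
    (hY : ∀ s, (∀ x ∈ X, s * x * s⁻¹ ∈ T) → s ∈ Subgroup.closure Y) {k : ℕ}
    (h1 : ∀ s ∈ Y, (∀ x ∈ X, s * x * s⁻¹ ∈ T) ∧ ∃ s', ∀ x ∈ X, s' * g^[k] x = g^[k] (s * x * s⁻¹) * s')
    (h2 : ∃ s, ∀ x ∈ X, s * x = g^[k] (g^[k] x) * s) : ∃ s, ∀ x ∈ X, s * x = g^[k] x * s := by
  have hXT : ∀ x ∈ X, x ∈ T := fun x hx => hT ▸ Subgroup.subset_closure hx
  have hgT : ∀ x ∈ T, g x ∈ T := fun x hx => mem_of_gens' hXT hg hX x (hT ▸ hx)
  have h3 : ∀ n, Mp F T g^[n] ∧ ∀ x ∈ T, g^[n] x ∈ T := fun n => by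
    induction n with
    | zero => exact ⟨mp_id F le_top, fun _ h => h⟩
    | succ n ih => exact ⟨hg.comp ih.1 hgT, fun x hx => ih.2 _ (hgT x hx)⟩
  obtain ⟨s, h2⟩ := h2
  obtain ⟨c, -, h4⟩ := exists_conj_of_sq (hA.to_subgroup ⊤) hF hfn (h3 k).1 (h3 k).2 (fun u hu => by
      obtain ⟨-, s', h4⟩ := conj_gens hT (h3 k).1 h1 u
        (hY u fun x hx => (Subgroup.mem_normalizer_iff.1 hu.2 x).1 (hXT x hx))
      exact ⟨s', Subgroup.mem_top _, h4⟩)
    ⟨s, Subgroup.mem_top s, eq_of_gens' hT ((h3 k).1.comp (h3 k).1 (h3 k).2) (mp_conj F le_top (Subgroup.mem_top s))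
      fun x hx => by rw [h2 x hx, mul_inv_cancel_right]⟩
  exact ⟨c, fun x hx => by rw [h4 x (hXT x hx), inv_mul_cancel_right]⟩

theorem fn_of_gens [Finite A] (F : FusionSystem (⊤ : Subgroup A)) {X Y : Set A} {T : Subgroup A}
    (hT : T = Subgroup.closure X) (hY : Subgroup.closure Y = ⊤) (h : ∀ s ∈ Y, ∀ x ∈ X, s * x * s⁻¹ ∈ T) :
    (∀ s, ∀ x ∈ T, s * x * s⁻¹ ∈ T) ∧ F.IsFullyNormalized T := by
  have h1 : ∀ s, ∀ x ∈ T, s * x * s⁻¹ ∈ T := fun s => (conj_gens hT (mp_id F le_top)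
    (fun s hs => ⟨h s hs, s, fun x _ => by group⟩) s (hY ▸ Subgroup.mem_top s)).1
  exact ⟨h1, isFullyNormalized_of_normal F le_top fun s _ => h1 s⟩

/-! ### T7: the kinds of nodes -/

theorem nor_node [Finite A] (h : Hyp F) {W : Subgroup A} (hW : W ≠ ⊥) (hn : ∀ s, ∀ x ∈ W, s * x * s⁻¹ ∈ W) :
    Closed F (norP F W) ∧ (∃ P g, Mp F P g ∧ ¬ norP F W P g) ∧
      ∀ P g, Mp F P g → W ≤ P → (∀ w ∈ W, g w ∈ W) → norP F W P g := by
  refine ⟨closed_norP F le_top fun s _ => hn s, ?_, fun P g hg h1 h2 => (norP_iff_of_le h1 hg).2 h2⟩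
  by_contra h1
  exact not_isNormal_of_core h.core hW (isNormal_of_norP F le_top fun P g hg => by_contra fun h2 => h1 ⟨P, g, hg, h2⟩)

theorem foc_node [Finite A] (hA : IsPGroup 2 A) (h : Hyp F) {W : Subgroup A} (hW : W ≠ ⊤)
    (hc : ∀ x y, x * y * x⁻¹ * y⁻¹ ∈ W) : Closed F (focP W) ∧ ∃ P g, Mp F P g ∧ ¬ focP W P g := by
  have := hA
  refine ⟨closed_focP F W fun x _ y _ => hc x y, ?_⟩
  by_contra h1
  exact hW (top_le_iff.1 (h.foc.trans (focal_le_of_focP F W fun P g hg => by_contra fun h2 => h1 ⟨P, g, hg, h2⟩)))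

/-- `W` is the commutator subgroup. -/
theorem cen_node [Finite A] (hA : IsPGroup 2 A) (h : Hyp F) {W : Subgroup A} {X : Set A} (hW : W = Subgroup.closure X)
    (hX : ∀ w ∈ X, ∃ a b, w = a * b * a⁻¹ * b⁻¹) (hc : ∀ x y, x * y * x⁻¹ * y⁻¹ ∈ W) {z : A} (hz : z ∉ W)
    (hz2 : z * z = 1) (hzc : ∀ g, g * z = z * g) :
    Closed F (cenP W z) ∧ (∃ f, Au F (cenP W z) ⊤ f) ∧
      ∀ P g, Mp F P g → (∃ x ∈ P, z⁻¹ * x ∈ W ∧ z⁻¹ * g x ∈ W) → cenP W z P g := by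
  have hWi : ∀ {g : A → A}, Mp F ⊤ g → ∀ w ∈ W, g w ∈ W := fun {g} hg w hw =>
    mem_of_gens' (fun _ _ => Subgroup.mem_top _) hg (fun x hx => by
      obtain ⟨a, b, rfl⟩ := hX x hx
      have t := fun y : A => Subgroup.mem_top y
      rw [hg.mul (t _) (t _), hg.mul (t _) (t _), hg.mul (t _) (t _), hg.inv (t _), hg.inv (t _)]
      exact hc _ _) w (hW ▸ hw)
  have t := fun y : A => Subgroup.mem_top y
  have hcl : Closed F (cenP W z) := by
    refine ⟨fun P f g _ h1 he hP => by rw [he z (hP ▸ t z)]; exact h1 hP, fun P Q f g hf hg h1 h2 hPQ hP => ?_,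
      fun P R f g hf h1 hg he _ hR => ?_, fun P _ s _ _ => ?_⟩
    · subst hP
      obtain rfl : Q = ⊤ := top_le_iff.1 fun y hy => by
        obtain ⟨x, hx, rfl⟩ := hf.surj (fun _ _ => t _) hy
        exact hPQ x hx
      show z⁻¹ * g (f z) ∈ W
      rw [← mul_inv_cancel_left z (f z), hg.mul (t _) (t _), ← mul_assoc]
      exact W.mul_mem (h2 rfl) (hWi hg _ (h1 rfl))
    · subst hR
      obtain rfl : P = ⊤ := top_le_iff.1 fun y hy => by
        obtain ⟨u, hu, rfl⟩ := hg.surj (fun _ _ => t _) hy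
        obtain ⟨x, hx, -, h2⟩ := he u hu
        exact h2 ▸ hx
      obtain ⟨x, -, h2, h3⟩ := he (f z) (t _)
      have h4 := hWi hg _ (W.inv_mem (h1 rfl))
      rwa [mul_inv_rev, inv_inv, hg.mul (t _) (t _), hg.inv (t _), h3, hf.inj (t _) (t _) h2] at h4
    · show z⁻¹ * (s * z * s⁻¹) ∈ W
      rw [hzc, mul_inv_cancel_right, inv_mul_cancel]
      exact W.one_mem
  refine ⟨hcl, ?_, fun P g hg ⟨x, _, h1, h2⟩ hP => ?_⟩
  · obtain ⟨f, hf, h1⟩ : ∃ f, Mp F ⊤ f ∧ ¬ cenP W z ⊤ f := by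
      by_contra h1
      exact hz (h.central_mem hA hc hz2 hzc fun f hf => by_contra fun h2 => h1 ⟨f, hf, fun h3 => h2 (h3 rfl)⟩)
    exact (fail_aux hA h.sat hcl hf h1).resolve_right fun h2 => h1 (h2.1 f hf)
  · subst hP
    have h3 := W.mul_mem h2 (W.inv_mem (hWi hg _ h1))
    rwa [hg.mul (t _) (t _), hg.inv (t _), mul_inv_rev, inv_inv, mul_assoc, mul_inv_cancel_left] at h3

/-- A set of generators on which `f` is trivial modulo the normal subgroup `W`. -/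
theorem focP_of_gens {W P : Subgroup A} (hn : ∀ s, ∀ x ∈ W, s * x * s⁻¹ ∈ W) {g : A → A} (hg : Mp F P g) {X : Set A}
    (hP : P = Subgroup.closure X) (h : ∀ x ∈ X, x⁻¹ * g x ∈ W) : focP W P g := by
  subst hP
  intro x hx
  induction hx using Subgroup.closure_induction with
  | mem x hx => exact h x hx
  | one => rw [hg.one, inv_one, mul_one]; exact W.one_mem
  | mul x y hx hy a b =>
    rw [hg.mul hx hy, show (x * y)⁻¹ * (g x * g y) = y⁻¹ * (x⁻¹ * g x) * y⁻¹⁻¹ * (y⁻¹ * g y) by group]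
    exact W.mul_mem (hn _ _ a) b
  | inv x hx a =>
    rw [hg.inv hx, show x⁻¹⁻¹ * (g x)⁻¹ = x * (x⁻¹ * g x)⁻¹ * x⁻¹ by group]
    exact hn _ _ (W.inv_mem a)

/-! ### T9: words -/

theorem word_step (hM : Closed F M) {T D : Subgroup A} {X : Set A} (hT : T = Subgroup.closure X) {φ ψ : A → A}
    (h1 : Mp F T φ) (h2 : M T φ) (h3 : Mp F D ψ) (h4 : M D ψ) {s : A} (h : ∀ x ∈ X, s * φ x * s⁻¹ ∈ D) :
    Mp F T (fun x => ψ (s * φ x * s⁻¹)) ∧ M T fun x => ψ (s * φ x * s⁻¹) := by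
  have h5 := mp_conj F (P := ⊤) le_rfl (Subgroup.mem_top s)
  have h6 := h1.comp h5 fun _ _ => Subgroup.mem_top _
  have h7 := hM.comp _ _ _ _ h1 h5 h2 (hM.conj ⊤ le_rfl s (Subgroup.mem_top s)) fun _ _ => Subgroup.mem_top _
  have h8 : ∀ x ∈ T, s * φ x * s⁻¹ ∈ D := fun x hx =>
    mem_of_gens' (fun _ a => hT ▸ Subgroup.subset_closure a) h6 h x (hT ▸ hx)
  exact ⟨h6.comp h3 h8, hM.comp _ _ _ _ h6 h3 h7 h4 h8⟩

theorem word_inv (hM : Closed F M) {P : Subgroup A} {ψ : A → A} (h1 : Mp F P ψ) (h2 : M P ψ) :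
    ∃ (R : Subgroup A) (χ : A → A), Mp F R χ ∧ M R χ ∧ ∀ x ∈ P, ψ x ∈ R ∧ χ (ψ x) = x := by
  obtain ⟨R, hR, -, -⟩ := h1.exists_image le_rfl
  obtain ⟨χ, h3, h4, h5⟩ := h1.exists_symm le_rfl hR
  have h6 : ∀ x ∈ P, ψ x ∈ R := fun x hx => (hR _).2 ⟨x, hx, rfl⟩
  exact ⟨R, χ, h3, hM.inv P R ψ χ h1 h2 h3 (fun y hy => ⟨_, (h5 y hy).1, (h5 y hy).2, rfl⟩) h6,
    fun x hx => ⟨h6 x hx, h4 x hx⟩⟩

theorem word_conj (hM : Closed F M) {P P' : Subgroup A} {ψ : A → A} (h1 : Mp F P ψ) (h2 : M P ψ) (s : A)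
    (hP : ∀ y ∈ P', s⁻¹ * y * s ∈ P) :
    Mp F P' (fun y => s * ψ (s⁻¹ * y * s) * s⁻¹) ∧ M P' fun y => s * ψ (s⁻¹ * y * s) * s⁻¹ := by
  have h3 := word_step (T := P') hM (Subgroup.closure_eq P').symm (mp_id F le_top)
    (hM.congr _ _ _ (mp_conj F le_top (Subgroup.mem_top 1)) (hM.conj P' le_top 1 (Subgroup.mem_top 1))
      fun x _ => by simp) h1 h2 (s := s⁻¹) fun y hy => by rw [inv_inv]; exact hP y hy
  rw [inv_inv] at h3
  have h5 := mp_conj F (P := ⊤) le_rfl (Subgroup.mem_top s)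
  exact ⟨h3.1.comp h5 fun _ _ => Subgroup.mem_top _,
    hM.comp _ _ _ _ h3.1 h5 h3.2 (hM.conj ⊤ le_rfl s (Subgroup.mem_top s)) fun _ _ => Subgroup.mem_top _⟩

/-- Two maps of the system which agree on generators agree. -/
theorem eq_of_gens {P : Subgroup A} {X : Set A} (hP : P = Subgroup.closure X) {φ ψ : A → A} (h1 : Mp F P φ)
    (h2 : Mp F P ψ) (h : ∀ x ∈ X, φ x = ψ x) : ∀ x ∈ P, φ x = ψ x := by
  exact eq_of_gens' hP h1 h2 h

theorem mem_of_gens {P K : Subgroup A} {X : Set A} (hX : ∀ x ∈ X, x ∈ P) {φ : A → A} (h1 : Mp F P φ)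
    (h : ∀ x ∈ X, φ x ∈ K) : ∀ x ∈ Subgroup.closure X, φ x ∈ K := by
  exact mem_of_gens' hX h1 h

/-! ### T8: twisting -/

end Cfsg.Agent.FS.B
end

-- part: FS/B/Tv
section
prune_inst 0x20100000000000000018000000002004400001000060000108000402004003012000010030001600010002702008000002000009021000000000020040040000002830820000010000000000b807180c00000000000000000000000000000000000000000
set_option linter.all false
open scoped Cfsg.Agent.FastGrp

/-!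
# Transvections: a normal subgroup inside the centre (project FS, part B; statement helper80, proof helper49)
-/

set_option autoImplicit false

namespace Cfsg.Agent.FS.B

open Cfsg Cfsg.FusionSystem Cfsg.Agent.H802 Cfsg.Agent.H752 Cfsg.Agent.FS.Th

universe u

/-! ### pure group theory -/

theorem tv_four {G K : Type*} [Group G] [Finite G] [Group K] (π : G →* K) (R : Sylow 2 G) {a : K}
    (hR : ∀ r ∈ (R : Subgroup G), π r = 1 ∨ π r = a) {x y : K} (hx : x ∈ π.range) (hy : y ∈ π.range) (x2 : x * x = 1)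
    (y2 : y * y = 1) (hc : x * y = y * x) (x1 : x ≠ 1) (y1 : y ≠ 1) : x = y := by
  have : Fact (Nat.Prime 2) := ⟨Nat.prime_two⟩
  have : Finite π.range := Finite.of_surjective _ π.rangeRestrict_surjective
  have hp : ∀ z : π.range, (z : K) * z = 1 → IsPGroup 2 (Subgroup.zpowers z) := fun z h =>
    isPGroup_zpowers_of_pow (k := 1) (Subtype.ext (by rw [pow_one, pow_two]; exact h))
  have hN : IsPGroup 2 (Subgroup.zpowers (⟨x, hx⟩ : π.range) ⊔ Subgroup.zpowers ⟨y, hy⟩ : Subgroup π.range) := by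
    refine (hp _ x2).to_sup_of_normal_right' (hp _ y2) (Subgroup.zpowers_le.2 ?_)
    refine Subgroup.centralizer_le_normalizer _ (Subgroup.mem_centralizer_iff.2 ?_)
    rintro _ ⟨k, rfl⟩
    have h1 : Commute (⟨y, hy⟩ : π.range) ⟨x, hx⟩ := Subtype.ext hc.symm
    exact h1.zpow_left k
  obtain ⟨T, hT⟩ := hN.exists_le_sylow
  obtain ⟨c, h1⟩ := MulAction.exists_smul_eq π.range T (R.mapSurjective π.rangeRestrict_surjective)
  have key : ∀ z : π.range, z ∈ (T : Subgroup π.range) → (z : K) ≠ 1 → (c : K) * z * (c : K)⁻¹ = a := fun z hz h2 => by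
    have h3 : c * z * c⁻¹ ∈ (R.mapSurjective π.rangeRestrict_surjective : Subgroup π.range) := by
      rw [← h1]
      exact Subgroup.smul_mem_pointwise_smul _ (MulAut.conj c) (T : Subgroup π.range) hz
    obtain ⟨r, hr, h4⟩ := h3
    have h5 : π r = (c : K) * z * (c : K)⁻¹ := congrArg Subtype.val h4
    rcases hR r hr with h6 | h6
    · rw [h5, mul_inv_eq_one, mul_eq_left] at h6
      exact absurd h6 h2
    · rw [← h5, h6]
  have h2 := key ⟨x, hx⟩ (hT (Subgroup.mem_sup_left (Subgroup.mem_zpowers _))) x1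
  have h3 := key ⟨y, hy⟩ (hT (Subgroup.mem_sup_right (Subgroup.mem_zpowers _))) y1
  exact mul_left_cancel (mul_right_cancel (h2.trans h3.symm))

/-- a transvection with centre `w` inside `H` -/
structure Tvc {Z : Type*} [Group Z] (H : Subgroup (MulAut Z)) (x : MulAut Z) (w : Z) : Prop where
  mem : x ∈ H
  ne : x ≠ 1
  tv : ∀ z, x z = z ∨ x z = z * w

namespace Tvc

variable {Z : Type*} [Group Z] {H : Subgroup (MulAut Z)} {x y g : MulAut Z} {v w : Z}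

theorem ne_one (h : Tvc H x w) : w ≠ 1 := fun h1 => h.ne (by
  ext z
  rcases h.tv z with h2 | h2
  · exact h2
  · rw [h2, h1, mul_one]; rfl)

theorem fix (hZ : ∀ z : Z, z * z = 1) (h : Tvc H x w) : x w = w := (h.tv w).resolve_right fun h1 => by
  rw [hZ, map_eq_one_iff _ x.injective] at h1
  exact h.ne_one h1

theorem sq (hZ : ∀ z : Z, z * z = 1) (h : Tvc H x w) : x * x = 1 := by
  ext z
  show x (x z) = z
  rcases h.tv z with h1 | h1
  · rw [h1, h1]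
  · rw [h1, map_mul, h1, h.fix hZ, mul_assoc, hZ, mul_one]

theorem conj (h : Tvc H x w) (hg : g ∈ H) : Tvc H (g * x * g⁻¹) (g w) := by
  refine ⟨H.mul_mem (H.mul_mem hg h.mem) (H.inv_mem hg), fun h1 => h.ne ?_, fun z => ?_⟩
  · rwa [mul_inv_eq_one, mul_eq_left] at h1
  · show g (x (g⁻¹ z)) = z ∨ g (x (g⁻¹ z)) = _
    rcases h.tv (g⁻¹ z) with h1 | h1
    · left; rw [h1, MulAut.apply_inv_self]
    · right; rw [h1, map_mul, MulAut.apply_inv_self]

theorem comm (hZ : ∀ z : Z, z * z = 1) (h : Tvc H x v) (h' : Tvc H y w) (h1 : x w = w) (h2 : y v = v) :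
    x * y = y * x := by
  have hc : v * w = w * v := by
    have h3 := hZ (v * w)
    rw [← eq_inv_iff_mul_eq_one, mul_inv_rev, inv_eq_of_mul_eq_one_right (hZ v), inv_eq_of_mul_eq_one_right (hZ w)] at h3
    exact h3
  ext z
  show x (y z) = y (x z)
  rcases h.tv z with h3 | h3 <;> rcases h'.tv z with h4 | h4
  · rw [h4, h3, h4]
  · rw [h4, h3, h4, map_mul, h3, h1]
  · rw [h4, h3, map_mul, h4, h2]
  · rw [h4, h3, map_mul, map_mul, h3, h4, h1, h2, mul_assoc, mul_assoc, hc]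

theorem moves (hZ : ∀ z : Z, z * z = 1)
    (hH : ∀ x ∈ H, ∀ y ∈ H, x * x = 1 → y * y = 1 → x * y = y * x → x ≠ 1 → y ≠ 1 → x = y)
    (h : Tvc H x v) (h' : Tvc H y w) (hne : x ≠ y) : x w = w * v := (h.tv w).resolve_left fun h1 => by
  have h2 := h.conj h'.mem
  have h3 : x (y v) = y v := by
    rcases h'.tv v with h4 | h4
    · rw [h4, h.fix hZ]
    · rw [h4, map_mul, h.fix hZ, h1]
  have hy : y⁻¹ = y := inv_eq_of_mul_eq_one_right (h'.sq hZ)
  have h4 : (y * x * y⁻¹) v = v := by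
    rw [hy]
    show y (x (y v)) = v
    rw [h3]
    exact DFunLike.congr_fun (h'.sq hZ) v
  have h5 := hH _ h.mem _ h2.mem (h.sq hZ) (h2.sq hZ) (h.comm hZ h2 h3 h4) h.ne h2.ne
  exact hne (hH _ h.mem _ h'.mem (h.sq hZ) (h'.sq hZ) (by rw [eq_mul_inv_iff_mul_eq] at h5; exact h5) h.ne h'.ne)

/-- a conjugate different from `a` moves every fixed point of `a` moved by some conjugate -/
theorem key (hZ : ∀ z : Z, z * z = 1)
    (hH : ∀ x ∈ H, ∀ y ∈ H, x * x = 1 → y * y = 1 → x * y = y * x → x ≠ 1 → y ≠ 1 → x = y)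
    {a : MulAut Z} {c z : Z} (ha : Tvc H a c) (hx : Tvc H x v) (hy : Tvc H y w) (h1 : a z = z) (h2 : x z ≠ z)
    (h3 : y ≠ a) : y z = z * w := (hy.tv z).resolve_left fun h4 => by
  have h5 : a ≠ x := fun h => h2 (h ▸ h1)
  have h6 : y ≠ x := fun h => h2 (h ▸ h4)
  have h7 : y ≠ a * x * a⁻¹ := fun h => h2 (by
    have h8 : a (x (a⁻¹ z)) = z := by
      rw [h] at h4
      exact h4
    have h9 : a⁻¹ z = z := by rw [← h1, MulAut.inv_apply_self, h1]
    rw [h9] at h8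
    exact a.injective (h8.trans h1.symm))
  have h8 := hy.moves hZ hH (hx.conj ha.mem) h7
  rw [ha.moves hZ hH hx h5, map_mul, hy.moves hZ hH hx h6, hy.moves hZ hH ha h3, mul_assoc, mul_assoc,
    mul_right_inj, mul_eq_right] at h8
  exact hy.ne_one h8

end Tvc

variable {A : Type u} [Group A]

/-- `z` is an involution of the centre of `P`, or `1` -/
def Zc (P : Subgroup A) (z : A) : Prop := z ∈ P ∧ z * z = 1 ∧ ∀ x ∈ P, x * z = z * x

/-- The normalizer of `P` is `P ∪ t P`, and `t` moves the elements of `Ω₁ Z(P)` only by `c`. -/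
def TvP (P : Subgroup A) (t c : A) : Prop :=
  (∀ s, (∀ x ∈ P, s * x * s⁻¹ ∈ P) → s ∈ P ∨ t⁻¹ * s ∈ P) ∧ ∀ z, Zc P z → t * z * t⁻¹ = z ∨ t * z * t⁻¹ = z * c

/-- all images of `v` under `Aut_F(P)` commute with the normalizer of `P` -/
def Fx (F : FusionSystem (⊤ : Subgroup A)) (P : Subgroup A) (v : A) : Prop :=
  ∀ g : A → A, Mp F P g → (∀ x ∈ P, g x ∈ P) → ∀ s, (∀ x ∈ P, s * x * s⁻¹ ∈ P) → s * g v * s⁻¹ = g v

variable {F : FusionSystem (⊤ : Subgroup A)} {P Q : Subgroup A} {g : A → A} {z v w t c : A}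

theorem Zc.map [Finite A] (h : Zc P z) (hg : Mp F P g) (hm : ∀ x ∈ P, g x ∈ P) : Zc P (g z) := by
  refine ⟨hm z h.1, by rw [← hg.mul h.1 h.1, h.2.1, hg.one], fun x hx => ?_⟩
  obtain ⟨y, hy, rfl⟩ := hg.surj hm hx
  rw [← hg.mul hy h.1, ← hg.mul h.1 hy, h.2.2 y hy]

theorem Zc.res (h : Zc ⊤ z) (hz : z ∈ P) : Zc P z := ⟨hz, h.2.1, fun x _ => h.2.2 x (Subgroup.mem_top x)⟩

theorem Zc.conj (h : Zc P z) {s : A} (hs : s ∈ P) : s * z * s⁻¹ = z := by rw [h.2.2 s hs, mul_inv_cancel_right]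

theorem Zc.mul (h : Zc P z) (h' : Zc P w) : Zc P (z * w) := by
  refine ⟨P.mul_mem h.1 h'.1, ?_, fun x hx => by rw [← mul_assoc, h.2.2 x hx, mul_assoc, h'.2.2 x hx, mul_assoc]⟩
  rw [mul_assoc, ← mul_assoc w, h.2.2 w h'.1, mul_assoc, h'.2.1, mul_one, h.2.1]

theorem TvP.act (h : TvP P t c) (hz : Zc P z) {s : A} (hs : ∀ x ∈ P, s * x * s⁻¹ ∈ P) :
    s ∈ P ∨ s * z * s⁻¹ = t * z * t⁻¹ := (h.1 s hs).imp_right fun h1 => by
  rw [← hz.conj h1]
  rw [show t * (t⁻¹ * s * z * (t⁻¹ * s)⁻¹) * t⁻¹ = s * z * s⁻¹ by group, hz.conj h1]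

theorem Fx.mul (h : Fx F P v) (h' : Fx F P w) (hv : v ∈ P) (hw : w ∈ P) : Fx F P (v * w) := fun g hg hm s hs => by
  rw [hg.mul hv hw, show s * (g v * g w) * s⁻¹ = s * g v * s⁻¹ * (s * g w * s⁻¹) by group, h g hg hm s hs,
    h' g hg hm s hs]

theorem fx_zero [Finite A] (h : TvP P t 1) (hz : Zc P z) : Fx F P z := fun g hg hm s hs => by
  have h1 := hz.map hg hm
  rcases h.act h1 hs with h2 | h2
  · exact h1.conj h2
  · rw [h2]
    exact (h.2 _ h1).elim id fun h3 => by rw [h3, mul_one]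

theorem fx_one [Finite A] (hA : IsPGroup 2 A) (hF : F.IsSaturated 2) (hP : F.IsFullyNormalized P) (h : TvP P t c)
    (hv : Zc ⊤ v) (hw : Zc ⊤ w) (hvP : v ∈ P) (hwP : w ∈ P) (h1 : ¬ Fx F P v) (h2 : ¬ Fx F P w) :
    Fx F P (v * w) := by
  have : Fact (Nat.Prime 2) := ⟨Nat.prime_two⟩
  have := Loc.finAut P
  have hzc : ∀ z : P, z ∈ omZ P ↔ Zc P z := fun z =>
    ⟨fun h3 => ⟨z.2, congrArg Subtype.val h3.1, fun x hx => congrArg Subtype.val (h3.2 ⟨x, hx⟩)⟩,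
      fun h3 => ⟨Subtype.ext h3.2.1, fun x => Subtype.ext (h3.2.2 x x.2)⟩⟩
  have hZ : ∀ z : omZ P, z * z = 1 := fun z => Subtype.ext z.2.1
  obtain ⟨π, hπ⟩ := exists_resAut (omZ P) (F.autGroup P) fun α hα x hx => (hzc _).2 (by
    have h3 := ((hzc x).1 hx).map (mp_fn le_top hα) fun _ => fn_mem α
    rwa [fn_apply α x.2] at h3)
  -- a moved point gives the action of `t`
  have ht : ∀ {z : A}, Zc P z → ¬ Fx F P z → (∀ x ∈ P, t * x * t⁻¹ ∈ P) ∧
      ∃ α ∈ F.autGroup P, t * fn α z * t⁻¹ ≠ fn α z := fun {z} hz h3 => by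
    simp only [Fx, not_forall] at h3
    obtain ⟨g, hg, hm, s, hs, h4⟩ := h3
    have h5 := hz.map hg hm
    have h6 : s ∉ P := fun h6 => h4 (h5.conj h6)
    obtain ⟨α, hα, h7⟩ := hg.exists_aut hm
    refine ⟨fun x hx => ?_, α, hα, ?_⟩
    · have h8 := (h.1 s hs).resolve_left h6
      have h9 := hs _ (P.mul_mem (P.mul_mem (P.inv_mem h8) hx) h8)
      rwa [show s * ((t⁻¹ * s)⁻¹ * x * (t⁻¹ * s)) * s⁻¹ = t * x * t⁻¹ by group] at h9
    · rw [fn_apply α hz.1, ← h7 z hz.1, ← (h.act h5 hs).resolve_left h6]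
      exact h4
  obtain ⟨htN, α, hα, h3⟩ := ht (hv.res hvP) h1
  obtain ⟨-, β, hβ, h4⟩ := ht (hw.res hwP) h2
  obtain ⟨ρ, hρ⟩ := exists_cj htN
  have hρA : ρ ∈ F.autGroup P := autInducedBy_le_autGroup F le_top hρ.mem
  set a := π ⟨ρ, hρA⟩ with ha
  have haz : ∀ z : omZ P, (((a z : omZ P) : P) : A) = t * ((z : P) : A) * t⁻¹ := fun z => by
    rw [ha, hπ]
    exact hρ _
  have hval : ∀ {x y : omZ P}, ((x : P) : A) = (y : P) → x = y := fun h5 => Subtype.ext (Subtype.ext h5)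
  have hπ' : ∀ (γ : F.autGroup P) (z : omZ P), (((π γ z : omZ P) : P) : A) = fn γ.1 (z : P) := fun γ z => by
    rw [hπ, fn_apply _ (z : P).2]
  obtain ⟨-, R, hR⟩ := isFullyAutomized_of_isFullyNormalized (hA.to_subgroup ⊤) hF hP
  have hH : ∀ x ∈ π.range, ∀ y ∈ π.range, x * x = 1 → y * y = 1 → x * y = y * x → x ≠ 1 → y ≠ 1 → x = y :=
    fun x hx y hy => tv_four π R (a := a) (fun r hr => by
      rw [hR] at hr
      obtain ⟨s, hs⟩ := mem_autTop_iff.1 hr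
      by_cases h5 : s ∈ P
      · left
        ext z
        rw [hπ]
        exact (hs _).trans (((hzc _).1 z.2).conj h5)
      · right
        ext z
        rw [hπ, haz]
        exact (hs _).trans ((h.act ((hzc _).1 z.2) hs.mapsTo).resolve_left h5)) hx hy
  let v' : omZ P := ⟨⟨v, hvP⟩, (hzc _).2 (hv.res hvP)⟩
  let w' : omZ P := ⟨⟨w, hwP⟩, (hzc _).2 (hw.res hwP)⟩
  -- the centre of `a`
  let z0 := π ⟨α, hα⟩ v'
  have h5 : a z0 ≠ z0 := fun h5 => h3 (by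
    have h6 := haz z0
    rw [h5, hπ'] at h6
    exact h6.symm)
  have h6 : (((z0⁻¹ * a z0 : omZ P) : P) : A) = c := by
    rcases h.2 _ ((hzc _).1 z0.2) with h6 | h6
    · exact absurd (hval ((haz z0).trans h6)) h5
    · show ((z0 : P) : A)⁻¹ * ((a z0 : omZ P) : P) = c
      rw [haz, h6, inv_mul_cancel_left]
  have hT : Tvc π.range a (z0⁻¹ * a z0) := ⟨⟨_, rfl⟩, fun h7 => h5 (by rw [h7]; rfl), fun z =>
    (h.2 _ ((hzc _).1 z.2)).imp (fun h7 => hval ((haz z).trans h7)) fun h7 => hval ((haz z).trans (h7.trans (by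
      rw [← h6]; rfl)))⟩
  have hmv : ∀ (γ : F.autGroup P) (z : omZ P), ((π γ)⁻¹ * a * (π γ)⁻¹⁻¹) z = z ↔
      t * fn γ.1 (z : P) * t⁻¹ = fn γ.1 (z : P) := fun γ z => by
    rw [inv_inv, ← hπ', ← haz]
    show (π γ)⁻¹ (a (π γ z)) = z ↔ _
    constructor
    · intro h7
      have h8 := congrArg (π γ) h7
      rw [MulAut.apply_inv_self] at h8
      rw [h8]
    · intro h7
      rw [hval h7, MulAut.inv_apply_self]
  have hmem : ∀ γ : F.autGroup P, (π γ)⁻¹ ∈ π.range := fun γ => π.range.inv_mem ⟨γ, rfl⟩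
  have hav : a v' = v' := hval ((haz v').trans (hv.conj (Subgroup.mem_top t)))
  have haw : a w' = w' := hval ((haz w').trans (hw.conj (Subgroup.mem_top t)))
  intro g hg hm s hs
  have h7 := ((hv.res hvP).mul (hw.res hwP)).map hg hm
  rcases h.act h7 hs with h8 | h8
  · exact h7.conj h8
  obtain ⟨γ, hγ, h9⟩ := hg.exists_aut hm
  rw [h8, h9 _ (P.mul_mem hvP hwP), ← fn_apply γ]
  refine (hmv ⟨γ, hγ⟩ (v' * w')).1 ?_
  have hy := hT.conj (hmem ⟨γ, hγ⟩)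
  by_cases h10 : (π ⟨γ, hγ⟩)⁻¹ * a * (π ⟨γ, hγ⟩)⁻¹⁻¹ = a
  · rw [h10, map_mul, hav, haw]
  · have h11 := Tvc.key hZ hH hT (hT.conj (hmem ⟨α, hα⟩)) hy hav (fun h11 => h3 ((hmv ⟨α, hα⟩ v').1 h11)) h10
    have h12 := Tvc.key hZ hH hT (hT.conj (hmem ⟨β, hβ⟩)) hy haw (fun h12 => h4 ((hmv ⟨β, hβ⟩ w').1 h12)) h10
    rw [map_mul, h11, h12]
    generalize (π ⟨γ, hγ⟩)⁻¹ (z0⁻¹ * a z0) = d
    have h13 : d * w' = w' * d := Subtype.ext (w'.2.2 _)
    rw [mul_assoc, ← mul_assoc d, h13, mul_assoc, hZ, mul_one]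

/-- transport along an automorphism of the whole group -/
theorem Fx.map [Finite A] (h : Fx F P v) (hv : v ∈ P) {θ : MulAut A} (hθ : Mp F ⊤ θ) (hθ' : Mp F ⊤ (θ⁻¹ : MulAut A))
    (hQ : ∀ x, x ∈ Q ↔ θ x ∈ P) : Fx F Q (θ⁻¹ v) := fun g hg hm s hs => by
  have h1 : ∀ x ∈ P, θ⁻¹ x ∈ Q := fun x hx => (hQ _).2 (by rwa [MulAut.apply_inv_self])
  have h2 := h (θ ∘ g ∘ (θ⁻¹ : MulAut A)) (((hθ'.res le_top).comp hg h1).comp hθ fun _ _ => Subgroup.mem_top _)
    (fun x hx => (hQ _).1 (hm _ (h1 x hx))) (θ s) fun x hx => by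
      have h3 := (hQ _).1 (hs _ (h1 x hx))
      rwa [map_mul, map_mul, map_inv, MulAut.apply_inv_self] at h3
  apply θ.injective
  rw [map_mul, map_mul, map_inv]
  exact h2

theorem mp_inv [Finite A] {θ : MulAut A} (hθ : Mp F ⊤ θ) : Mp F ⊤ (θ⁻¹ : MulAut A) :=
  hθ.symm fun y _ => ⟨θ⁻¹ y, Subgroup.mem_top _, MulAut.apply_inv_self _ _ _, rfl⟩

theorem tv_false [Finite A] (hA : IsPGroup 2 A) {F : FusionSystem (⊤ : Subgroup A)} (hF : Hyp F)
    (L0 L1 : List (Subgroup A))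
    (hAl : ∀ (θ : MulAut A) (Q : Subgroup A), F.IsEssential 2 Q →
      ∃ P ∈ L0 ++ L1, ∃ s : A, ∀ x, x ∈ Q ↔ s⁻¹ * θ x * s ∈ P)
    (h0 : ∀ P ∈ L0, ∃ t, TvP P t 1) (h1 : ∀ P ∈ L1, ∃ t c, TvP P t c)
    {V : Subgroup A} (hV : ∀ v ∈ V, Zc ⊤ v) (hc : 2 ^ L1.length < Nat.card V) : False := by
  classical
  have : Fact (Nat.Prime 2) := ⟨Nat.prime_two⟩
  have hS : IsPGroup 2 (⊤ : Subgroup A) := hA.to_subgroup ⊤
  have hcen : ∀ {Q : Subgroup A} {z : A}, F.IsEssential 2 Q → Zc ⊤ z → z ∈ Q := fun {Q z} hQ hz =>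
    hQ.1.2 Q (isConj_refl F le_top) ⟨Subgroup.mem_top z, Subgroup.mem_centralizer_iff.2 fun x _ =>
      hz.2.2 x (Subgroup.mem_top x)⟩
  have hmap : ∀ {f : A → A} {z : A}, Mp F ⊤ f → Zc ⊤ z → Zc ⊤ (f z) := fun hf hz =>
    hz.map hf fun _ _ => Subgroup.mem_top _
  let U : Subgroup A :=
    { carrier := {v | Zc ⊤ v ∧ ∀ f Q, Mp F ⊤ f → F.IsEssential 2 Q → Fx F Q (f v)}
      one_mem' := ⟨⟨Subgroup.mem_top _, one_mul _, fun x _ => by rw [mul_one, one_mul]⟩, fun f Q hf _ g hg _ s _ => by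
        rw [hf.one, hg.one, mul_one, mul_inv_cancel]⟩
      mul_mem' := fun {a b} ha hb => ⟨ha.1.mul hb.1, fun f Q hf hQ => by
        rw [hf.mul ha.1.1 hb.1.1]
        exact (ha.2 f Q hf hQ).mul (hb.2 f Q hf hQ) (hcen hQ (hmap hf ha.1)) (hcen hQ (hmap hf hb.1))⟩
      inv_mem' := fun {a} ha => by
        rw [inv_eq_of_mul_eq_one_right ha.1.2.1]
        exact ha }
  have hU : U ≠ ⊥ := by
    let Gd : Subgroup A → Prop := fun P => F.IsFullyNormalized P ∧ ∀ z, Zc ⊤ z → z ∈ P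
    have := Fintype.ofFinite V
    obtain ⟨x, y, hxy, h2⟩ := Fintype.exists_ne_map_eq_of_card_lt
      (fun (v : V) (i : Fin L1.length) => decide (Fx F L1[i] v)) (by
        rw [Fintype.card_fun, Fintype.card_bool, Fintype.card_fin, ← Nat.card_eq_fintype_card]
        exact hc)
    have hx := hV x x.2
    have hy := hV y y.2
    have h3 : ∀ P ∈ L0 ++ L1, Gd P → Fx F P (x * y) := fun P hP hG => by
      rcases List.mem_append.1 hP with h4 | h4
      · obtain ⟨t, ht⟩ := h0 P h4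
        exact fx_zero ht ((hx.mul hy).res (hG.2 _ (hx.mul hy)))
      · obtain ⟨t, c, ht⟩ := h1 P h4
        obtain ⟨i, rfl⟩ := List.mem_iff_get.1 h4
        have h5 : Fx F (L1.get i) x ↔ Fx F (L1.get i) y := decide_eq_decide.1 (congrFun h2 i)
        by_cases h6 : Fx F (L1.get i) x
        · exact h6.mul (h5.1 h6) (hG.2 _ hx) (hG.2 _ hy)
        · exact fx_one hA hF.sat hG.1 ht hx hy (hG.2 _ hx) (hG.2 _ hy) h6 fun h7 => h6 (h5.2 h7)
    intro h4
    have h5 : (x : A) * y ∈ U := ⟨hx.mul hy, fun f Q hf hQ => by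
      obtain ⟨θ, hθ⟩ := Mp.exists_top hf
      have h6 : Mp F ⊤ θ := hf.congr fun x _ => hθ x
      obtain ⟨P, hP, s, h7⟩ := hAl θ⁻¹ Q hQ
      have h8 : Mp F ⊤ (MulAut.conj s⁻¹ * θ⁻¹ : MulAut A) :=
        ((mp_inv h6).comp (mp_conj F le_rfl (Subgroup.mem_top s⁻¹)) fun _ _ => Subgroup.mem_top _).congr fun _ _ => rfl
      have h9 : ∀ x, x ∈ Q ↔ (MulAut.conj s⁻¹ * θ⁻¹ : MulAut A) x ∈ P := fun x => by
        rw [h7, MulAut.mul_apply, MulAut.conj_apply, inv_inv]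
      have hG : Gd P := ⟨isFullyNormalized_image hQ.2.1 (h8.res le_top) fun y => ⟨fun h10 =>
        ⟨_, (h9 _).2 (by rwa [MulAut.apply_inv_self]), MulAut.apply_inv_self _ _ _⟩,
          fun ⟨x, h10, h11⟩ => h11 ▸ (h9 x).1 h10⟩, fun z hz => by
        have h10 := (h9 _).1 (hcen hQ (hmap (mp_inv h8) hz))
        rwa [MulAut.apply_inv_self] at h10⟩
      have h10 := (h3 P hP hG).map (hG.2 _ (hx.mul hy)) h8 (mp_inv h8) h9
      rwa [mul_inv_rev, inv_inv, MulAut.mul_apply, ← map_inv, inv_inv, MulAut.conj_apply,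
        (hx.mul hy).conj (Subgroup.mem_top s), hθ] at h10⟩
    rw [h4, Subgroup.mem_bot, mul_eq_one_iff_eq_inv, inv_eq_of_mul_eq_one_right hy.2.1] at h5
    exact hxy (Subtype.ext h5)
  obtain ⟨h2, ⟨P, g, h3, h4⟩, h5⟩ := nor_node hF hU fun s x hx => by
    rw [hx.1.conj (Subgroup.mem_top s)]
    exact hx
  rcases exists_fail hA hF.sat h2 h3 h4 with ⟨f, hf⟩ | ⟨Q, hQ, h6⟩
  · exact hf.nm (h5 _ _ hf.mp le_top fun w hw => ⟨hmap hf.mp hw.1, fun f' Q hf' hQ =>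
      hw.2 (f' ∘ f) Q (hf.mp.comp hf' fun _ _ => Subgroup.mem_top _) hQ⟩)
  · obtain ⟨t, -, h7⟩ := exists_sq_mem hS le_top (ne_of_isEssential hS hF.sat hQ)
    obtain ⟨τ, f, -, hf, hd⟩ := h6 t h7
    refine hf.nm (h5 _ _ hf.mp (fun w hw => hcen hQ hw.1) fun w hw => ?_)
    have hwQ := hcen hQ hw.1
    have h8 : f (f w) = w := by
      have h9 := hd.inv w hwQ
      rwa [hw.2 (fun x => x) Q (mp_id F le_rfl) hQ f hf.mp hf.mem τ hd.tN, hw.1.conj (Subgroup.mem_top τ)] at h9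
    obtain ⟨r, k, hr, hr2, h9⟩ := hf.ord
    obtain ⟨m, hm⟩ := (hr.odd_of_ne_two hr2).pow (n := k)
    have h10 : ∀ n, f^[2 * n] w = w := fun n => by
      induction n with
      | zero => rfl
      | succ n ih => rw [show 2 * (n + 1) = 2 * n + 1 + 1 by ring, Function.iterate_succ_apply,
          Function.iterate_succ_apply, h8, ih]
    have h11 := h9 w hwQ
    rw [hm, add_comm, Function.iterate_add_apply, h10, Function.iterate_one] at h11
    rw [h11]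
    exact hw

end Cfsg.Agent.FS.B

private theorem dce_e7934dff3b6f : _root_.True := by
  try have : _root_.True := by simp only [_root_.Cfsg.Agent.FS.B.Fx.eq_1]
  exact _root_.True.intro
end

-- part: FS/Real/Tab
section
set_option linter.all false

/-!
# The presentations (helper83, project FS, part C; generated)
-/

set_option autoImplicit false

namespace Cfsg.Agent.FS.Real

/-- relations `[[0], [2, 0], [20, 52, 0], [56, 40, 8, 0], [16, 16, 16, 16, 0], [32, 32, 32, 32, 32, 0]]` -/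
def dU34 : PcD := ⟨6, 0x20820820000410410000008a38000000d14000000002000000000, 0x7de75c6da6585d65544d24503ce34c2ca2481c61440c2040ffef7cefae78df6d74cf2c70beeb6caeaa689e69648e2860beeb6caeaa689e69648e2860ffef7cefae78df6d74cf2c703ce34c2ca2481c61440c20407de75c6da6585d65544d2450df6d74cf2c70ffef7cefae789e69648e2860beeb6caeaa685d65544d24507de75c6da6581c61440c20403ce34c2ca248efae78ffef7ccf2c70df6d74aeaa68beeb6c8e28609e69646da6587de75c4d24505d65542ca2483ce34c0c20401c6144b6cbee6586da1441c6c70cf2f7cffe2482ca5545d68608e234c3cee78efa9649e64504d275c7dea68aead74df60400c279f71d28b2099a7925cb3c3138f30d69b619db7d358a3821fbff3daaba29187105493411bafb2debbe39597515083001, 0x7de75c6da6585d65544d24503ce34c2ca2481c61440c2040ffef7cefae78df6d74cf2c70beeb6caeaa689e69648e2860beeb6caeaa689e69648e2860ffef7cefae78df6d74cf2c703ce34c2ca2481c61440c20407de75c6da6585d65544d2450df6d74cf2c70ffef7cefae789e69648e2860beeb6caeaa685d65544d24507de75c6da6581c61440c20403ce34c2ca248efae78ffef7ccf2c70df6d74aeaa68beeb6c8e28609e69646da6587de75c4d24505d65542ca2483ce34c0c20401c6144b6cbee6586da1441c6c70cf2f7cffe2482ca5545d68608e234c3cee78efa9649e64504d275c7dea68aead74df60400c279f71d28b2099a7925cb3c3138f30d69b619db7d358a3821fbff3daaba29187105493411bafb2debbe39597515083001,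 0x222f000000000000222f000000000000222f000000000000222f, [16, 32, 48]⟩


theorem dU34_ok : dU34.Ok := PcF.ok_spec _ (by decide +kernel)

/-- relations `[[0], [10, 0], [20, 4, 0], [8, 8, 40, 0], [16, 48, 16, 16, 0], [32, 32, 32, 32, 32, 0]]` -/
def dU42 : PcD := ⟨6, 0x20820820000410c1000002820800000011400000000a000000000, 0x7de75c6da6585d65544d24503ce34c2ca2481c61440c2040ffef7cefae78df6d74cf2c70beeb6caeaa689e69648e2860beeb6caeaa689e69648e2860ffef7cefae78df6d74cf2c703ce34c2ca2481c61440c20407de75c6da6585d65544d2450df6d74cf2c70ffef7cefae789e69648e2860beeb6caeaa685d65544d24507de75c6da6581c61440c20403ce34c2ca2486da6587de75ccf2c70df6d742ca2483ce34c8e28609e6964efae78ffef7c4d24505d6554aeaa68beeb6c0c20401c614475c7de6586da5545d64504d2b6cbeea68aea9649e68608e2f7cffee78efad74df6c70cf234c3ce2482ca1441c60400c2187b2dcb3e3938f925ebbc31597f3d8a3a2979fd35aab8219a730d493619baf10569b411db771d083209fbf51528b001, 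0x7de75c6da6585d65544d24503ce34c2ca2481c61440c2040ffef7cefae78df6d74cf2c70beeb6caeaa689e69648e2860beeb6caeaa689e69648e2860ffef7cefae78df6d74cf2c703ce34c2ca2481c61440c20407de75c6da6585d65544d2450df6d74cf2c70ffef7cefae789e69648e2860beeb6caeaa685d65544d24507de75c6da6581c61440c20403ce34c2ca2486da6587de75ccf2c70df6d742ca2483ce34c8e28609e6964efae78ffef7c4d24505d6554aeaa68beeb6c0c20401c614475c7de6586da5545d64504d2b6cbeea68aea9649e68608e2f7cffee78efad74df6c70cf234c3ce2482ca1441c60400c2187b2dcb3e3938f925ebbc31597f3d8a3a2979fd35aab8219a730d493619baf10569b411db771d083209fbf51528b001, 0x3131411131314111323242123333441f3131411131314111323242123333441f, [32]⟩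

theorem dU42_ok : dU42.Ok := PcF.ok_spec _ (by decide +kernel)

/-- relations `[[0], [62, 0], [52, 36, 0], [24, 40, 40, 0], [16, 48, 16, 16, 0], [32, 32, 32, 32, 32, 0]]` -/
def dM12 : PcD := ⟨6, 0x20820820000410c10000028a1800000093400000003e000000000, 0x7de75c6da6585d65544d24503ce34c2ca2481c61440c2040ffef7cefae78df6d74cf2c70beeb6caeaa689e69648e2860beeb6caeaa689e69648e2860ffef7cefae78df6d74cf2c703ce34c2ca2481c61440c20407de75c6da6585d65544d2450df6d74cf2c70ffef7cefae789e69648e2860beeb6caeaa685d65544d24507de75c6da6581c61440c20403ce34c2ca2486da6587de75ccf2c70df6d742ca2483ce34c8e28609e6964efae78ffef7c4d24505d6554aeaa68beeb6c0c20401c614475c7dee78efad74df64504d2b6cbee2482ca1441c68608e2f7cffe6586da5545d6c70cf234c3cea68aea9649e60400c208371d597a2969b10538fc3149330d187e3928b51579f8218a3f3ddb7209ebb925baf411cb3b2d9a7619aabd35fbf001, 0x7de75c6da6585d65544d24503ce34c2ca2481c61440c2040ffef7cefae78df6d74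cf2c70beeb6caeaa689e69648e2860beeb6caeaa689e69648e2860ffef7cefae78df6d74cf2c703ce34c2ca2481c61440c20407de75c6da6585d65544d2450df6d74cf2c70ffef7cefae789e69648e2860beeb6caeaa685d65544d24507de75c6da6581c61440c20403ce34c2ca2486da6587de75ccf2c70df6d742ca2483ce34c8e28609e6964efae78ffef7c4d24505d6554aeaa68beeb6c0c20401c614475c7dee78efad74df64504d2b6cbee2482ca1441c68608e2f7cffe6586da5545d6c70cf234c3cea68aea9649e60400c208371d597a2969b10538fc3149330d187e3928b51579f8218a3f3ddb7209ebb925baf411cb3b2d9a7619aabd35fbf001, 0x4100430242034111440041014101421f4100430242034111440041014101421f, [32]⟩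

theorem dM12_ok : dM12.Ok := PcF.ok_spec _ (by decide +kernel)

/-- relations `[[0], [18, 0], [12, 36, 0], [8, 40, 8, 0], [16, 16, 48, 80, 0], [96, 32, 32, 32, 32, 0], [64, 64, 64, 64, 64, 64, 0]]` -/
def dA10 : PcD := ⟨7, 0x810204081000004081020c000000a0c0810000000010a040000000004830000000000024000000000000, 0x7ef9ebc76e9cb86ed9ab466c98b05eb96ac56a94a84e992a446890a03e78e9c3668c982e58a9426488901e3868c16284880e182840608080fffbefcf7ebcf8efdbaf4e7cb8f0dfbb6ecd7ab4e8cf9b2e4c78b0e0bf7aedcb76acd8af5aad4a74a8d09f3a6cc972a4c88f1a2c4870a0c0bf7aedcb76acd8af5aad4a74a8d09f3a6cc972a4c88f1a2c4870a0c0fffbefcf7ebcf8efdbaf4e7cb8f0dfbb6ecd7ab4e8cf9b2e4c78b0e03e78e9c3668c982e58a9426488901e3868c16284880e1828406080807ef9ebc76e9cb86ed9ab466c98b05eb96ac56a94a84e992a446890a0dfbb6ecd7ab4e8cf9b2e4c78b0e0fffbefcf7ebcf8efdbaf4e7cb8f09f3a6cc972a4c88f1a2c4870a0c0bf7aedcb76acd8af5aad4a74a8d05eb96ac56a94a84e992a446890a0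7ef9ebc76e9cb86ed9ab466c98b01e3868c16284880e1828406080803e78e9c3668c982e58a9426488906ed9ab466c98b07ef9ebc76e9cb8cf9b2e4c78b0e0dfbb6ecd7ab4e82e58a9426488903e78e9c3668c988f1a2c4870a0c09f3a6cc972a4c8efdbaf4e7cb8f0fffbefcf7ebcf84e992a446890a05eb96ac56a94a8af5aad4a74a8d0bf7aedcb76acd80e1828406080801e3868c1628488b76acd8bf7aedca74a8d0af5aad4d7ab4e8dfbb6ecc78b0e0cf9b2e4f7ebcf8fffbefce7cb8f0efdbaf4972a4c89f3a6cc870a0c08f1a2c43668c983e78e9c26488902e58a9456a94a85eb96ac46890a04e992a476e9cb87ef9ebc66c98b06ed9ab416284881e3868c06080800e18284fbf3ffeb362ddaab52bd6e3c39f2dbb37ee93225ca8b123c6c3831e2bb72fdef3e3dfaebd3bf6a3429d29b327ced3a35eacb933e683021c27af1fbe3260d9a2a50b9662c19b25ab17ae122058a0a1038642811a23a70f9e72e1dba6ad1bb622409921a3078e52a15aa4a913a602001820c1da35d5adc399d3de3d448d8312c5d225f5ed429bd7d62d64cd021cd9ea55142ec595cbee5d850e851edde245346e4497cfe64da54e0418d1fa7554afc791c3fe7dc58f871ad5f26574ef4693c7f66de5cf0614c9ca15952cc19ddbce1d040c8116cdc205b56c409fdfc60d244c001,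 0x7ef9ebc76e9cb86ed9ab466c98b05eb96ac56a94a84e992a446890a03e78e9c3668c982e58a9426488901e3868c16284880e182840608080fffbefcf7ebcf8efdbaf4e7cb8f0dfbb6ecd7ab4e8cf9b2e4c78b0e0bf7aedcb76acd8af5aad4a74a8d09f3a6cc972a4c88f1a2c4870a0c0bf7aedcb76acd8af5aad4a74a8d09f3a6cc972a4c88f1a2c4870a0c0fffbefcf7ebcf8efdbaf4e7cb8f0dfbb6ecd7ab4e8cf9b2e4c78b0e03e78e9c3668c982e58a9426488901e3868c16284880e1828406080807ef9ebc76e9cb86ed9ab466c98b05eb96ac56a94a84e992a446890a0dfbb6ecd7ab4e8cf9b2e4c78b0e0fffbefcf7ebcf8efdbaf4e7cb8f09f3a6cc972a4c88f1a2c4870a0c0bf7aedcb76acd8af5aad4a74a8d05eb96ac56a94a84e992a446890a07ef9ebc76e9cb86ed9ab466c98b01e3868c16284880e1828406080803e78e9c3668c982e58a9426488906ed9ab466c98b07ef9ebc76e9cb8cf9b2e4c78b0e0dfbb6ecd7ab4e82e58a9426488903e78e9c3668c988f1a2c4870a0c09f3a6cc972a4c8efdbaf4e7cb8f0fffbefcf7ebcf84e992a446890a05eb96ac56a94a8af5aad4a74a8d0bf7aedcb76acd80e1828406080801e3868c1628488b76a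cd8bf7aedca74a8d0af5aad4d7ab4e8dfbb6ecc78b0e0cf9b2e4f7ebcf8fffbefce7cb8f0efdbaf4972a4c89f3a6cc870a0c08f1a2c43668c983e78e9c26488902e58a9456a94a85eb96ac46890a04e992a476e9cb87ef9ebc66c98b06ed9ab416284881e3868c06080800e18284fbf3ffeb362ddaab52bd6e3c39f2dbb37ee93225ca8b123c6c3831e2bb72fdef3e3dfaebd3bf6a3429d29b327ced3a35eacb933e683021c27af1fbe3260d9a2a50b9662c19b25ab17ae122058a0a1038642811a23a70f9e72e1dba6ad1bb622409921a3078e52a15aa4a913a602001820c1da35d5adc399d3de3d448d8312c5d225f5ed429bd7d62d64cd021cd9ea55142ec595cbee5d850e851edde245346e4497cfe64da54e0418d1fa7554afc791c3fe7dc58f871ad5f26574ef4693c7f66de5cf0614c9ca15952cc19ddbce1d040c8116cdc205b56c409fdfc60d244c001, 0x503344005033500050504400505050005033443350335033505044445050505f503344005033500050504400505050005033443350335033505044445050505f, [64]⟩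

theorem dA10_ok : dA10.Ok := PcF.ok_spec _ (by decide +kernel)

/-- relations `[[0], [66, 0], [108, 20, 0], [8, 104, 72, 0], [48, 16, 16, 80, 0], [32, 32, 96, 32, 32, 0], [64, 64, 64, 64, 64, 64, 0]]` -/
def dM22 : PcD := ⟨7, 0x8102040810000040830204000000a040830000000091a0400000000029b0000000000084000000000000, 0x7ef9ebc76e9cb86ed9ab466c98b05eb96ac56a94a84e992a446890a03e78e9c3668c982e58a9426488901e3868c16284880e182840608080fffbefcf7ebcf8efdbaf4e7cb8f0dfbb6ecd7ab4e8cf9b2e4c78b0e0bf7aedcb76acd8af5aad4a74a8d09f3a6cc972a4c88f1a2c4870a0c0bf7aedcb76acd8af5aad4a74a8d09f3a6cc972a4c88f1a2c4870a0c0fffbefcf7ebcf8efdbaf4e7cb8f0dfbb6ecd7ab4e8cf9b2e4c78b0e03e78e9c3668c982e58a9426488901e3868c16284880e1828406080807ef9ebc76e9cb86ed9ab466c98b05eb96ac56a94a84e992a446890a0dfbb6ecd7ab4e8cf9b2e4c78b0e0fffbefcf7ebcf8efdbaf4e7cb8f09f3a6cc972a4c88f1a2c4870a0c0bf7aedcb76acd8af5aad4a74a8d05eb96ac56a94a84e992a44689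0a07ef9ebc76e9cb86ed9ab466c98b01e3868c16284880e1828406080803e78e9c3668c982e58a9426488906ed9ab466c98b07ef9ebc76e9cb8cf9b2e4c78b0e0dfbb6ecd7ab4e82e58a9426488903e78e9c3668c988f1a2c4870a0c09f3a6cc972a4c8efdbaf4e7cb8f0fffbefcf7ebcf84e992a446890a05eb96ac56a94a8af5aad4a74a8d0bf7aedcb76acd80e1828406080801e3868c1628488f7ebcf8fffbefc66c98b06ed9ab4d7ab4e8dfbb6ec46890a04e992a43668c983e78e9ca74a8d0af5aad416284881e3868c870a0c08f1a2c476e9cb87ef9ebce7cb8f0efdbaf456a94a85eb96acc78b0e0cf9b2e4b76acd8bf7aedc26488902e58a94972a4c89f3a6cc06080800e182849b327ce3260d9acb933e6e3c39f2bb72fde122058aebd3bf6c3831e2dbb37ee72e1dba8b123c6a3429d2fbf3ffe52a15aaab52bd683021c21a3078eb362dda4a913a662c19b23a70f9e93225ca6ad1bb642811a25ab17aef3e3dfa0a1038622409927af1fbed3a35ea2a50b960200182eddda35346ec59fdfde3d244e8518d1c20554af4699d3c60d448f061ad5ca1574efc79bd7ce1d64cf871cd9d225142e449ddbd62d040e0416cdfa75b56cc197cffe7da54c8110c1e245d5ad4291c3e64dc58d0212c5ea55f5edc393c7ee5de5cd8314c9f265952c4095cbf66d850c001,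 0x7ef9ebc76e9cb86ed9ab466c98b05eb96ac56a94a84e992a446890a03e78e9c3668c982e58a9426488901e3868c16284880e182840608080fffbefcf7ebcf8efdbaf4e7cb8f0dfbb6ecd7ab4e8cf9b2e4c78b0e0bf7aedcb76acd8af5aad4a74a8d09f3a6cc972a4c88f1a2c4870a0c0bf7aedcb76acd8af5aad4a74a8d09f3a6cc972a4c88f1a2c4870a0c0fffbefcf7ebcf8efdbaf4e7cb8f0dfbb6ecd7ab4e8cf9b2e4c78b0e03e78e9c3668c982e58a9426488901e3868c16284880e1828406080807ef9ebc76e9cb86ed9ab466c98b05eb96ac56a94a84e992a446890a0dfbb6ecd7ab4e8cf9b2e4c78b0e0fffbefcf7ebcf8efdbaf4e7cb8f09f3a6cc972a4c88f1a2c4870a0c0bf7aedcb76acd8af5aad4a74a8d05eb96ac56a94a84e992a446890a07ef9ebc76e9cb86ed9ab466c98b01e3868c16284880e1828406080803e78e9c3668c982e58a9426488906ed9ab466c98b07ef9ebc76e9cb8cf9b2e4c78b0e0dfbb6ecd7ab4e82e58a9426488903e78e9c3668c988f1a2c4870a0c09f3a6cc972a4c8efdbaf4e7cb8f0fffbefcf7ebcf84e992a446890a05eb96ac56a94a8af5aad4a74a8d0bf7aedcb76acd80e1828406080801e3868c1628488f7eb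cf8fffbefc66c98b06ed9ab4d7ab4e8dfbb6ec46890a04e992a43668c983e78e9ca74a8d0af5aad416284881e3868c870a0c08f1a2c476e9cb87ef9ebce7cb8f0efdbaf456a94a85eb96acc78b0e0cf9b2e4b76acd8bf7aedc26488902e58a94972a4c89f3a6cc06080800e182849b327ce3260d9acb933e6e3c39f2bb72fde122058aebd3bf6c3831e2dbb37ee72e1dba8b123c6a3429d2fbf3ffe52a15aaab52bd683021c21a3078eb362dda4a913a662c19b23a70f9e93225ca6ad1bb642811a25ab17aef3e3dfa0a1038622409927af1fbed3a35ea2a50b960200182eddda35346ec59fdfde3d244e8518d1c20554af4699d3c60d448f061ad5ca1574efc79bd7ce1d64cf871cd9d225142e449ddbd62d040e0416cdfa75b56cc197cffe7da54c8110c1e245d5ad4291c3e64dc58d0212c5ea55f5edc393c7ee5de5cd8314c9f265952c4095cbf66d850c001, 0x5454e4335552101254330014553200125452e43255551013543200125533001f5454e4335552101254330014553200125452e43255551013543200125533001f, [64]⟩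

theorem dM22_ok : dM22.Ok := PcF.ok_spec _ (by decide +kernel)

/-- relations `[[0], [2, 0], [8, 16, 0], [4, 32, 72, 0], [32, 4, 80, 80, 0], [16, 8, 96, 96, 96, 0], [64, 64, 64, 64, 64, 64, 0]]` -/
def dJ2 : PcD := ⟨7, 0x81020408100000c1830082000000a1402200000000908020000000002020000000000004000000000000, 0x7ef9ebc76e9cb86ed9ab466c98b05eb96ac56a94a84e992a446890a03e78e9c3668c982e58a9426488901e3868c16284880e182840608080fffbefcf7ebcf8efdbaf4e7cb8f0dfbb6ecd7ab4e8cf9b2e4c78b0e0bf7aedcb76acd8af5aad4a74a8d09f3a6cc972a4c88f1a2c4870a0c0bf7aedcb76acd8af5aad4a74a8d09f3a6cc972a4c88f1a2c4870a0c0fffbefcf7ebcf8efdbaf4e7cb8f0dfbb6ecd7ab4e8cf9b2e4c78b0e03e78e9c3668c982e58a9426488901e3868c16284880e1828406080807ef9ebc76e9cb86ed9ab466c98b05eb96ac56a94a84e992a446890a05eb96ac56a94a84e992a446890a07ef9ebc76e9cb86ed9ab466c98b09f3a6cc972a4c88f1a2c4870a0c0bf7aedcb76acd8af5aad4a74a8d0dfbb6ecd7ab4e8cf9b2e4c78b0e0fffb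efcf7ebcf8efdbaf4e7cb8f01e3868c16284880e1828406080803e78e9c3668c982e58a942648890efdbaf4e7cb8f0fffbefcf7ebcf84e992a446890a05eb96ac56a94a82e58a9426488903e78e9c3668c988f1a2c4870a0c09f3a6cc972a4c86ed9ab466c98b07ef9ebc76e9cb8cf9b2e4c78b0e0dfbb6ecd7ab4e8af5aad4a74a8d0bf7aedcb76acd80e1828406080801e3868c162848876e9cb87ef9ebce7cb8f0efdbaf4d7ab4e8dfbb6ec46890a04e992a4b76acd8bf7aedc26488902e58a9416284881e3868c870a0c08f1a2c4f7ebcf8fffbefc66c98b06ed9ab456a94a85eb96acc78b0e0cf9b2e43668c983e78e9ca74a8d0af5aad4972a4c89f3a6cc06080800e18284fbf3ffedbb37eebb72fde9b327cef3e3dfa52a15aa3260d9a93225caebd3bf64a913a62a50b968b123c6e3c39f2c3831e2a3429d283021c27af1fbe5ab17ae3a70f9e1a3078e72e1dbad3a35eab362dda122058a6ad1bb6cb933e6ab52bd60a1038662c19b242811a222409920200182fdffe7d6cdda3574edc3964cd8313c7ce1dad5ea55b56ec59a54e8515cbd62dcd9f265d5af469c58f0611c3c60d8d1e245952e449850e0417cfde3deddfa75f5efc79e5cf871bd7ee5d2c5ca15346cc19244c811ddbf66d4c9d22554ad429448d0219d3e64d0c1c205142c409040c001,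 0x7ef9ebc76e9cb86ed9ab466c98b05eb96ac56a94a84e992a446890a03e78e9c3668c982e58a9426488901e3868c16284880e182840608080fffbefcf7ebcf8efdbaf4e7cb8f0dfbb6ecd7ab4e8cf9b2e4c78b0e0bf7aedcb76acd8af5aad4a74a8d09f3a6cc972a4c88f1a2c4870a0c0bf7aedcb76acd8af5aad4a74a8d09f3a6cc972a4c88f1a2c4870a0c0fffbefcf7ebcf8efdbaf4e7cb8f0dfbb6ecd7ab4e8cf9b2e4c78b0e03e78e9c3668c982e58a9426488901e3868c16284880e1828406080807ef9ebc76e9cb86ed9ab466c98b05eb96ac56a94a84e992a446890a05eb96ac56a94a84e992a446890a07ef9ebc76e9cb86ed9ab466c98b09f3a6cc972a4c88f1a2c4870a0c0bf7aedcb76acd8af5aad4a74a8d0dfbb6ecd7ab4e8cf9b2e4c78b0e0fffbefcf7ebcf8efdbaf4e7cb8f01e3868c16284880e1828406080803e78e9c3668c982e58a942648890efdbaf4e7cb8f0fffbefcf7ebcf84e992a446890a05eb96ac56a94a82e58a9426488903e78e9c3668c988f1a2c4870a0c09f3a6cc972a4c86ed9ab466c98b07ef9ebc76e9cb8cf9b2e4c78b0e0dfbb6ecd7ab4e8af5aad4a74a8d0bf7aedcb76acd80e1828406080801e3868c162848876e9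cb87ef9ebce7cb8f0efdbaf4d7ab4e8dfbb6ec46890a04e992a4b76acd8bf7aedc26488902e58a9416284881e3868c870a0c08f1a2c4f7ebcf8fffbefc66c98b06ed9ab456a94a85eb96acc78b0e0cf9b2e43668c983e78e9ca74a8d0af5aad4972a4c89f3a6cc06080800e18284fbf3ffedbb37eebb72fde9b327cef3e3dfa52a15aa3260d9a93225caebd3bf64a913a62a50b968b123c6e3c39f2c3831e2a3429d283021c27af1fbe5ab17ae3a70f9e1a3078e72e1dbad3a35eab362dda122058a6ad1bb6cb933e6ab52bd60a1038662c19b242811a222409920200182fdffe7d6cdda3574edc3964cd8313c7ce1dad5ea55b56ec59a54e8515cbd62dcd9f265d5af469c58f0611c3c60d8d1e245952e449850e0417cfde3deddfa75f5efc79e5cf871bd7ee5d2c5ca15346cc19244c811ddbf66d4c9d22554ad429448d0219d3e64d0c1c205142c409040c001, 0x222200020003000000041111000200020005000311110002000000020003222f222200020003000000041111000200020005000311110002000000020003222f, [64]⟩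

theorem dJ2_ok : dJ2.Ok := PcF.ok_spec _ (by decide +kernel)

/-- relations `[[0], [2, 0], [52, 76, 0], [168, 136, 8, 0], [144, 112, 208, 208, 0], [160, 32, 224, 160, 160, 128], [192, 192, 64, 64, 64, 64, 0], [128, 128, 128, 128, 128, 128, 128, 0]]` -/
def dS47 : PcD := ⟨8, 0x80808080808080000040404040c0c0000080a0a0e020a000000000d0d0709000000000000888a80000000000004c3400000000000000020000000000000000, 0x7f7e7d7c7b7a797877767574737271706f6e6d6c6b6a696867666564636261605f5e5d5c5b5a595857565554535251504f4e4d4c4b4a494847464544434241403f3e3d3c3b3a393837363534333231302f2e2d2c2b2a292827262524232221201f1e1d1c1b1a191817161514131211100f0e0d0c0b0a09080706050403020100fffefdfcfbfaf9f8f7f6f5f4f3f2f1f0efeeedecebeae9e8e7e6e5e4e3e2e1e0dfdedddcdbdad9d8d7d6d5d4d3d2d1d0cfcecdcccbcac9c8c7c6c5c4c3c2c1c0bfbebdbcbbbab9b8b7b6b5b4b3b2b1b0afaeadacabaaa9a8a7a6a5a4a3a2a1a09f9e9d9c9b9a999897969594939291908f8e8d8c8b8a89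888786858483828180bfbebdbcbbbab9b8b7b6b5b4b3b2b1b0afaeadacabaaa9a8a7a6a5a4a3a2a1a09f9e9d9c9b9a999897969594939291908f8e8d8c8b8a89888786858483828180fffefdfcfbfaf9f8f7f6f5f4f3f2f1f0efeeedecebeae9e8e7e6e5e4e3e2e1e0dfdedddcdbdad9d8d7d6d5d4d3d2d1d0cfcecdcccbcac9c8c7c6c5c4c3c2c1c03f3e3d3c3b3a393837363534333231302f2e2d2c2b2a292827262524232221201f1e1d1c1b1a191817161514131211100f0e0d0c0b0a090807060504030201007f7e7d7c7b7a797877767574737271706f6e6d6c6b6a696867666564636261605f5e5d5c5b5a595857565554535251504f4e4d4c4b4a494847464544434241405f5e5d5c5b5a595857565554535251504f4e4d4c4b4a49484746454443424140fffefdfcfbfaf9f8f7f6f5f4f3f2f1f0efeeedecebeae9e8e7e6e5e4e3e2e1e01f1e1d1c1b1a191817161514131211100f0e0d0c0b0a09080706050403020100bfbebdbcbbbab9b8b7b6b5b4b3b2b1b0afaeadacabaaa9a8a7a6a5a4a3a2a1a0dfdedddcdbdad9d8d7d6d5d4d3d2d1d0cfcecdcccbcac9c8c7c6c5c4c3c2c1c07f7e7d7c7b7a797877767574737271706f6e6d6c6b6a696867666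564636261609f9e9d9c9b9a999897969594939291908f8e8d8c8b8a898887868584838281803f3e3d3c3b3a393837363534333231302f2e2d2c2b2a292827262524232221206f6e6d6c6b6a696867666564636261607f7e7d7c7b7a79787776757473727170cfcecdcccbcac9c8c7c6c5c4c3c2c1c0dfdedddcdbdad9d8d7d6d5d4d3d2d1d02f2e2d2c2b2a292827262524232221203f3e3d3c3b3a393837363534333231308f8e8d8c8b8a898887868584838281809f9e9d9c9b9a99989796959493929190efeeedecebeae9e8e7e6e5e4e3e2e1e0fffefdfcfbfaf9f8f7f6f5f4f3f2f1f04f4e4d4c4b4a494847464544434241405f5e5d5c5b5a59585756555453525150afaeadacabaaa9a8a7a6a5a4a3a2a1a0bfbebdbcbbbab9b8b7b6b5b4b3b2b1b00f0e0d0c0b0a090807060504030201001f1e1d1c1b1a19181716151413121110b7b6b5b4b3b2b1b0bfbebdbcbbbab9b867666564636261606f6e6d6c6b6a696817161514131211101f1e1d1c1b1a1918c7c6c5c4c3c2c1c0cfcecdcccbcac9c8f7f6f5f4f3f2f1f0fffefdfcfbfaf9f827262524232221202f2e2d2c2b2a292857565554535251505f5e5d5c5b5a595887868584838281808f8e8d8c8b8a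898837363534333231303f3e3d3c3b3a3938e7e6e5e4e3e2e1e0efeeedecebeae9e897969594939291909f9e9d9c9b9a999847464544434241404f4e4d4c4b4a494877767574737271707f7e7d7c7b7a7978a7a6a5a4a3a2a1a0afaeadacabaaa9a8d7d6d5d4d3d2d1d0dfdedddcdbdad9d807060504030201000f0e0d0c0b0a0908fbfaf9f8fffefdfcf3f2f1f0f7f6f5f42b2a29282f2e2d2c23222120272625241b1a19181f1e1d1c1312111017161514cbcac9c8cfcecdccc3c2c1c0c7c6c5c4bbbab9b8bfbebdbcb3b2b1b0b7b6b5b46b6a69686f6e6d6c63626160676665645b5a59585f5e5d5c53525150575655548b8a89888f8e8d8c83828180878685847b7a79787f7e7d7c7372717077767574abaaa9a8afaeadaca3a2a1a0a7a6a5a49b9a99989f9e9d9c93929190979695944b4a49484f4e4d4c43424140474645443b3a39383f3e3d3c3332313037363534ebeae9e8efeeedece3e2e1e0e7e6e5e4dbdad9d8dfdedddcd3d2d1d0d7d6d5d40b0a09080f0e0d0c03020100070605045554575619181b1adddcdfde91909392a5a4a7a6e9e8ebea2d2c2f2e61606362f5f4f7f6b9b8bbba7d7c7f7e3130333285848786c9c8cbca0d0c0f0e41404342959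49796d9d8dbda1d1c1f1e515053526564676629282b2aedecefeea1a0a3a23534373679787b7abdbcbfbef1f0f3f24544474609080b0acdcccfce81808382d5d4d7d699989b9a5d5c5f5e111013122524272669686b6aadacafaee1e0e3e27574777639383b3afdfcfffeb1b0b3b20504070649484b4a8d8c8f8ec1c0c3c21514171659585b5a9d9c9f9ed1d0d3d2e5e4e7e6a9a8abaa6d6c6f6e21202322b5b4b7b6f9f8fbfa3d3c3f3e71707372c5c4c7c689888b8a4d4c4f4e010003022e2f2c2ddadbd8d94647444572737071bebfbcbdcacbc8c956575455e2e3e0e18e8f8c8dfafbf8f966676465d2d3d0d11e1f1c1deaebe8e97677747542434041eeefeced1a1b181986878485b2b3b0b17e7f7c7d0a0b080996979495222320214e4f4c4d3a3b3839a6a7a4a512131011dedfdcdd2a2b2829b6b7b4b582838081aeafacad5a5b5859c6c7c4c5f2f3f0f13e3f3c3d4a4b4849d6d7d4d5626360610e0f0c0d7a7b7879e6e7e4e5525350519e9f9c9d6a6b6869f6f7f4f5c2c3c0c16e6f6c6d9a9b98990607040532333031fefffcfd8a8b888916171415a2a3a0a1cecfcccdbabbb8b926272425929390915e5f5c5daaaba8a93637343502030001, 0x7f7e7d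7c7b7a797877767574737271706f6e6d6c6b6a696867666564636261605f5e5d5c5b5a595857565554535251504f4e4d4c4b4a494847464544434241403f3e3d3c3b3a393837363534333231302f2e2d2c2b2a292827262524232221201f1e1d1c1b1a191817161514131211100f0e0d0c0b0a09080706050403020100fffefdfcfbfaf9f8f7f6f5f4f3f2f1f0efeeedecebeae9e8e7e6e5e4e3e2e1e0dfdedddcdbdad9d8d7d6d5d4d3d2d1d0cfcecdcccbcac9c8c7c6c5c4c3c2c1c0bfbebdbcbbbab9b8b7b6b5b4b3b2b1b0afaeadacabaaa9a8a7a6a5a4a3a2a1a09f9e9d9c9b9a999897969594939291908f8e8d8c8b8a89888786858483828180bfbebdbcbbbab9b8b7b6b5b4b3b2b1b0afaeadacabaaa9a8a7a6a5a4a3a2a1a09f9e9d9c9b9a999897969594939291908f8e8d8c8b8a89888786858483828180fffefdfcfbfaf9f8f7f6f5f4f3f2f1f0efeeedecebeae9e8e7e6e5e4e3e2e1e0dfdedddcdbdad9d8d7d6d5d4d3d2d1d0cfcecdcccbcac9c8c7c6c5c4c3c2c1c03f3e3d3c3b3a393837363534333231302f2e2d2c2b2a292827262524232221201f1e1d1c1b1a191817161514131211100f0e0d0c0b0a090807060504030201007f7e7d7c7b7a7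97877767574737271706f6e6d6c6b6a696867666564636261605f5e5d5c5b5a595857565554535251504f4e4d4c4b4a49484746454443424140dfdedddcdbdad9d8d7d6d5d4d3d2d1d0cfcecdcccbcac9c8c7c6c5c4c3c2c1c07f7e7d7c7b7a797877767574737271706f6e6d6c6b6a696867666564636261609f9e9d9c9b9a999897969594939291908f8e8d8c8b8a898887868584838281803f3e3d3c3b3a393837363534333231302f2e2d2c2b2a292827262524232221205f5e5d5c5b5a595857565554535251504f4e4d4c4b4a49484746454443424140fffefdfcfbfaf9f8f7f6f5f4f3f2f1f0efeeedecebeae9e8e7e6e5e4e3e2e1e01f1e1d1c1b1a191817161514131211100f0e0d0c0b0a09080706050403020100bfbebdbcbbbab9b8b7b6b5b4b3b2b1b0afaeadacabaaa9a8a7a6a5a4a3a2a1a06f6e6d6c6b6a696867666564636261607f7e7d7c7b7a79787776757473727170cfcecdcccbcac9c8c7c6c5c4c3c2c1c0dfdedddcdbdad9d8d7d6d5d4d3d2d1d02f2e2d2c2b2a292827262524232221203f3e3d3c3b3a393837363534333231308f8e8d8c8b8a898887868584838281809f9e9d9c9b9a99989796959493929190efeeedecebeae9e8e7e6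e5e4e3e2e1e0fffefdfcfbfaf9f8f7f6f5f4f3f2f1f04f4e4d4c4b4a494847464544434241405f5e5d5c5b5a59585756555453525150afaeadacabaaa9a8a7a6a5a4a3a2a1a0bfbebdbcbbbab9b8b7b6b5b4b3b2b1b00f0e0d0c0b0a090807060504030201001f1e1d1c1b1a19181716151413121110b7b6b5b4b3b2b1b0bfbebdbcbbbab9b867666564636261606f6e6d6c6b6a696817161514131211101f1e1d1c1b1a1918c7c6c5c4c3c2c1c0cfcecdcccbcac9c8f7f6f5f4f3f2f1f0fffefdfcfbfaf9f827262524232221202f2e2d2c2b2a292857565554535251505f5e5d5c5b5a595887868584838281808f8e8d8c8b8a898837363534333231303f3e3d3c3b3a3938e7e6e5e4e3e2e1e0efeeedecebeae9e897969594939291909f9e9d9c9b9a999847464544434241404f4e4d4c4b4a494877767574737271707f7e7d7c7b7a7978a7a6a5a4a3a2a1a0afaeadacabaaa9a8d7d6d5d4d3d2d1d0dfdedddcdbdad9d807060504030201000f0e0d0c0b0a0908fbfaf9f8fffefdfcf3f2f1f0f7f6f5f42b2a29282f2e2d2c23222120272625241b1a19181f1e1d1c1312111017161514cbcac9c8cfcecdccc3c2c1c0c7c6c5c4bbbab9b8bfbebdbcb3b2b1b0b7b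6b5b46b6a69686f6e6d6c63626160676665645b5a59585f5e5d5c53525150575655548b8a89888f8e8d8c83828180878685847b7a79787f7e7d7c7372717077767574abaaa9a8afaeadaca3a2a1a0a7a6a5a49b9a99989f9e9d9c93929190979695944b4a49484f4e4d4c43424140474645443b3a39383f3e3d3c3332313037363534ebeae9e8efeeedece3e2e1e0e7e6e5e4dbdad9d8dfdedddcd3d2d1d0d7d6d5d40b0a09080f0e0d0c03020100070605045554575619181b1adddcdfde91909392a5a4a7a6e9e8ebea2d2c2f2e61606362f5f4f7f6b9b8bbba7d7c7f7e3130333285848786c9c8cbca0d0c0f0e4140434295949796d9d8dbda1d1c1f1e515053526564676629282b2aedecefeea1a0a3a23534373679787b7abdbcbfbef1f0f3f24544474609080b0acdcccfce81808382d5d4d7d699989b9a5d5c5f5e111013122524272669686b6aadacafaee1e0e3e27574777639383b3afdfcfffeb1b0b3b20504070649484b4a8d8c8f8ec1c0c3c21514171659585b5a9d9c9f9ed1d0d3d2e5e4e7e6a9a8abaa6d6c6f6e21202322b5b4b7b6f9f8fbfa3d3c3f3e71707372c5c4c7c689888b8a4d4c4f4e010003022e2f2c2ddadbd8d94647444572737071be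bfbcbdcacbc8c956575455e2e3e0e18e8f8c8dfafbf8f966676465d2d3d0d11e1f1c1deaebe8e97677747542434041eeefeced1a1b181986878485b2b3b0b17e7f7c7d0a0b080996979495222320214e4f4c4d3a3b3839a6a7a4a512131011dedfdcdd2a2b2829b6b7b4b582838081aeafacad5a5b5859c6c7c4c5f2f3f0f13e3f3c3d4a4b4849d6d7d4d5626360610e0f0c0d7a7b7879e6e7e4e5525350519e9f9c9d6a6b6869f6f7f4f5c2c3c0c16e6f6c6d9a9b98990607040532333031fefffcfd8a8b888916171415a2a3a0a1cecfcccdbabbb8b926272425929390915e5f5c5daaaba8a93637343502030001, 0x664565006600000066305630663111106405650066015450340036503600000066456500660156406631111066300000640565006600000034011110360534f0664565006600000066305630663111106405650066015450340036503600000066456500660156406631111066300000640565006600000034011110360534f, [128]⟩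

theorem dS47_ok : dS47.Ok := PcF.ok_spec _ (by decide +kernel)

/-- relations `[[0], [206, 0], [180, 4, 0], [152, 40, 168, 0], [208, 48, 208, 208, 192], [160, 160, 160, 160, 32, 128], [64, 192, 64, 64, 64, 64, 0], [128, 128, 128, 128, 128, 128, 128, 0]]` -/
def dG27 : PcD := ⟨8, 0x80808080808080000040404040c04000008020a0a0a0a0000000c0d0d030d00000000000a8289800000000000004b400000000000000ce0000000000000000, 0x7f7e7d7c7b7a797877767574737271706f6e6d6c6b6a696867666564636261605f5e5d5c5b5a595857565554535251504f4e4d4c4b4a494847464544434241403f3e3d3c3b3a393837363534333231302f2e2d2c2b2a292827262524232221201f1e1d1c1b1a191817161514131211100f0e0d0c0b0a09080706050403020100fffefdfcfbfaf9f8f7f6f5f4f3f2f1f0efeeedecebeae9e8e7e6e5e4e3e2e1e0dfdedddcdbdad9d8d7d6d5d4d3d2d1d0cfcecdcccbcac9c8c7c6c5c4c3c2c1c0bfbebdbcbbbab9b8b7b6b5b4b3b2b1b0afaeadacabaaa9a8a7a6a5a4a3a2a1a09f9e9d9c9b9a999897969594939291908f8e8d8c8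b8a89888786858483828180bfbebdbcbbbab9b8b7b6b5b4b3b2b1b0afaeadacabaaa9a8a7a6a5a4a3a2a1a09f9e9d9c9b9a999897969594939291908f8e8d8c8b8a89888786858483828180fffefdfcfbfaf9f8f7f6f5f4f3f2f1f0efeeedecebeae9e8e7e6e5e4e3e2e1e0dfdedddcdbdad9d8d7d6d5d4d3d2d1d0cfcecdcccbcac9c8c7c6c5c4c3c2c1c03f3e3d3c3b3a393837363534333231302f2e2d2c2b2a292827262524232221201f1e1d1c1b1a191817161514131211100f0e0d0c0b0a090807060504030201007f7e7d7c7b7a797877767574737271706f6e6d6c6b6a696867666564636261605f5e5d5c5b5a595857565554535251504f4e4d4c4b4a494847464544434241405f5e5d5c5b5a595857565554535251504f4e4d4c4b4a49484746454443424140fffefdfcfbfaf9f8f7f6f5f4f3f2f1f0efeeedecebeae9e8e7e6e5e4e3e2e1e01f1e1d1c1b1a191817161514131211100f0e0d0c0b0a09080706050403020100bfbebdbcbbbab9b8b7b6b5b4b3b2b1b0afaeadacabaaa9a8a7a6a5a4a3a2a1a0dfdedddcdbdad9d8d7d6d5d4d3d2d1d0cfcecdcccbcac9c8c7c6c5c4c3c2c1c07f7e7d7c7b7a797877767574737271706f6e6d6c6b6a6968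67666564636261609f9e9d9c9b9a999897969594939291908f8e8d8c8b8a898887868584838281803f3e3d3c3b3a393837363534333231302f2e2d2c2b2a292827262524232221202f2e2d2c2b2a29282726252423222120fffefdfcfbfaf9f8f7f6f5f4f3f2f1f00f0e0d0c0b0a09080706050403020100dfdedddcdbdad9d8d7d6d5d4d3d2d1d06f6e6d6c6b6a69686766656463626160bfbebdbcbbbab9b8b7b6b5b4b3b2b1b04f4e4d4c4b4a494847464544434241409f9e9d9c9b9a99989796959493929190afaeadacabaaa9a8a7a6a5a4a3a2a1a07f7e7d7c7b7a797877767574737271708f8e8d8c8b8a898887868584838281805f5e5d5c5b5a59585756555453525150efeeedecebeae9e8e7e6e5e4e3e2e1e03f3e3d3c3b3a39383736353433323130cfcecdcccbcac9c8c7c6c5c4c3c2c1c01f1e1d1c1b1a19181716151413121110b7b6b5b4b3b2b1b0bfbebdbcbbbab9b867666564636261606f6e6d6c6b6a696817161514131211101f1e1d1c1b1a1918c7c6c5c4c3c2c1c0cfcecdcccbcac9c8f7f6f5f4f3f2f1f0fffefdfcfbfaf9f827262524232221202f2e2d2c2b2a292857565554535251505f5e5d5c5b5a595887868584838281808f8e8d8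c8b8a898837363534333231303f3e3d3c3b3a3938e7e6e5e4e3e2e1e0efeeedecebeae9e897969594939291909f9e9d9c9b9a999847464544434241404f4e4d4c4b4a494877767574737271707f7e7d7c7b7a7978a7a6a5a4a3a2a1a0afaeadacabaaa9a8d7d6d5d4d3d2d1d0dfdedddcdbdad9d807060504030201000f0e0d0c0b0a09089b9a99989f9e9d9cb3b2b1b0b7b6b5b44b4a49484f4e4d4c6362616067666564bbbab9b8bfbebdbc13121110171615146b6a69686f6e6d6cc3c2c1c0c7c6c5c4dbdad9d8dfdedddcf3f2f1f0f7f6f5f40b0a09080f0e0d0c2322212027262524fbfaf9f8fffefdfc53525150575655542b2a29282f2e2d2c83828180878685841b1a19181f1e1d1c3332313037363534cbcac9c8cfcecdcce3e2e1e0e7e6e5e43b3a39383f3e3d3c9392919097969594ebeae9e8efeeedec43424140474645445b5a59585f5e5d5c73727170777675748b8a89888f8e8d8ca3a2a1a0a7a6a5a47b7a79787f7e7d7cd3d2d1d0d7d6d5d4abaaa9a8afaeadac03020100070605047d7c7f7e79787b7a55545756515053524d4c4f4e49484b4ae5e4e7e6e1e0e3e2dddcdfded9d8dbda75747776717073726d6c6f6e69686b6a45444746414043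42bdbcbfbeb9b8bbba95949796919093928d8c8f8e89888b8a25242726212023221d1c1f1e19181b1ab5b4b7b6b1b0b3b2adacafaea9a8abaa8584878681808382fdfcfffef9f8fbfad5d4d7d6d1d0d3d2cdcccfcec9c8cbca65646766616063625d5c5f5e59585b5af5f4f7f6f1f0f3f2edecefeee9e8ebeac5c4c7c6c1c0c3c23d3c3f3e39383b3a15141716111013120d0c0f0e09080b0aa5a4a7a6a1a0a3a29d9c9f9e99989b9a35343736313033322d2c2f2e29282b2a050407060100030272739c9d2627e8e92a2b44457e7fb0b1a2a34c4d3637f8f93a3b5455aeaf6061d2d3bcbd868748498a8b6465dedf101102036c6d969758599a9b74750e0fc0c13233dcdd6667a8a96a6b04053e3ff0f1e2e30c0d7677b8b97a7b1415eeef20219293fcfdc6c70809cacb24259e9f505142432c2dd6d71819dadb34354e4f8081f2f31c1da6a76869aaabc4c5feff30312223cccdb6b77879babbd4d52e2fe0e152533c3d0607c8c90a0be4e55e5f90918283eced1617d8d91a1bf4f58e8f4041b2b35c5de6e72829eaeb8485bebf707162638c8df6f73839fafb94956e6fa0a112137c7d464788894a4ba4a51e1fd0d1c2c3acad565798995a5bb4b5cecf0001, 0x7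f7e7d7c7b7a797877767574737271706f6e6d6c6b6a696867666564636261605f5e5d5c5b5a595857565554535251504f4e4d4c4b4a494847464544434241403f3e3d3c3b3a393837363534333231302f2e2d2c2b2a292827262524232221201f1e1d1c1b1a191817161514131211100f0e0d0c0b0a09080706050403020100fffefdfcfbfaf9f8f7f6f5f4f3f2f1f0efeeedecebeae9e8e7e6e5e4e3e2e1e0dfdedddcdbdad9d8d7d6d5d4d3d2d1d0cfcecdcccbcac9c8c7c6c5c4c3c2c1c0bfbebdbcbbbab9b8b7b6b5b4b3b2b1b0afaeadacabaaa9a8a7a6a5a4a3a2a1a09f9e9d9c9b9a999897969594939291908f8e8d8c8b8a89888786858483828180bfbebdbcbbbab9b8b7b6b5b4b3b2b1b0afaeadacabaaa9a8a7a6a5a4a3a2a1a09f9e9d9c9b9a999897969594939291908f8e8d8c8b8a89888786858483828180fffefdfcfbfaf9f8f7f6f5f4f3f2f1f0efeeedecebeae9e8e7e6e5e4e3e2e1e0dfdedddcdbdad9d8d7d6d5d4d3d2d1d0cfcecdcccbcac9c8c7c6c5c4c3c2c1c03f3e3d3c3b3a393837363534333231302f2e2d2c2b2a292827262524232221201f1e1d1c1b1a191817161514131211100f0e0d0c0b0a090807060504030201007f7e7d7c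7b7a797877767574737271706f6e6d6c6b6a696867666564636261605f5e5d5c5b5a595857565554535251504f4e4d4c4b4a49484746454443424140dfdedddcdbdad9d8d7d6d5d4d3d2d1d0cfcecdcccbcac9c8c7c6c5c4c3c2c1c07f7e7d7c7b7a797877767574737271706f6e6d6c6b6a696867666564636261609f9e9d9c9b9a999897969594939291908f8e8d8c8b8a898887868584838281803f3e3d3c3b3a393837363534333231302f2e2d2c2b2a292827262524232221205f5e5d5c5b5a595857565554535251504f4e4d4c4b4a49484746454443424140fffefdfcfbfaf9f8f7f6f5f4f3f2f1f0efeeedecebeae9e8e7e6e5e4e3e2e1e01f1e1d1c1b1a191817161514131211100f0e0d0c0b0a09080706050403020100bfbebdbcbbbab9b8b7b6b5b4b3b2b1b0afaeadacabaaa9a8a7a6a5a4a3a2a1a0efeeedecebeae9e8e7e6e5e4e3e2e1e03f3e3d3c3b3a39383736353433323130cfcecdcccbcac9c8c7c6c5c4c3c2c1c01f1e1d1c1b1a19181716151413121110afaeadacabaaa9a8a7a6a5a4a3a2a1a07f7e7d7c7b7a797877767574737271708f8e8d8c8b8a898887868584838281805f5e5d5c5b5a595857565554535251506f6e6d6c6b6a696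86766656463626160bfbebdbcbbbab9b8b7b6b5b4b3b2b1b04f4e4d4c4b4a494847464544434241409f9e9d9c9b9a999897969594939291902f2e2d2c2b2a29282726252423222120fffefdfcfbfaf9f8f7f6f5f4f3f2f1f00f0e0d0c0b0a09080706050403020100dfdedddcdbdad9d8d7d6d5d4d3d2d1d0b7b6b5b4b3b2b1b0bfbebdbcbbbab9b867666564636261606f6e6d6c6b6a696817161514131211101f1e1d1c1b1a1918c7c6c5c4c3c2c1c0cfcecdcccbcac9c8f7f6f5f4f3f2f1f0fffefdfcfbfaf9f827262524232221202f2e2d2c2b2a292857565554535251505f5e5d5c5b5a595887868584838281808f8e8d8c8b8a898837363534333231303f3e3d3c3b3a3938e7e6e5e4e3e2e1e0efeeedecebeae9e897969594939291909f9e9d9c9b9a999847464544434241404f4e4d4c4b4a494877767574737271707f7e7d7c7b7a7978a7a6a5a4a3a2a1a0afaeadacabaaa9a8d7d6d5d4d3d2d1d0dfdedddcdbdad9d807060504030201000f0e0d0c0b0a09089b9a99989f9e9d9cb3b2b1b0b7b6b5b44b4a49484f4e4d4c6362616067666564bbbab9b8bfbebdbc13121110171615146b6a69686f6e6d6cc3c2c1c0c7c6c5c4dbdad9d8dfdedddcf3f2f1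f0f7f6f5f40b0a09080f0e0d0c2322212027262524fbfaf9f8fffefdfc53525150575655542b2a29282f2e2d2c83828180878685841b1a19181f1e1d1c3332313037363534cbcac9c8cfcecdcce3e2e1e0e7e6e5e43b3a39383f3e3d3c9392919097969594ebeae9e8efeeedec43424140474645445b5a59585f5e5d5c73727170777675748b8a89888f8e8d8ca3a2a1a0a7a6a5a47b7a79787f7e7d7cd3d2d1d0d7d6d5d4abaaa9a8afaeadac03020100070605047d7c7f7e79787b7a55545756515053524d4c4f4e49484b4ae5e4e7e6e1e0e3e2dddcdfded9d8dbda75747776717073726d6c6f6e69686b6a4544474641404342bdbcbfbeb9b8bbba95949796919093928d8c8f8e89888b8a25242726212023221d1c1f1e19181b1ab5b4b7b6b1b0b3b2adacafaea9a8abaa8584878681808382fdfcfffef9f8fbfad5d4d7d6d1d0d3d2cdcccfcec9c8cbca65646766616063625d5c5f5e59585b5af5f4f7f6f1f0f3f2edecefeee9e8ebeac5c4c7c6c1c0c3c23d3c3f3e39383b3a15141716111013120d0c0f0e09080b0aa5a4a7a6a1a0a3a29d9c9f9e99989b9a35343736313033322d2c2f2e29282b2a050407060100030272739c9d2627e8e92a2b44457e7fb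0b1a2a34c4d3637f8f93a3b5455aeaf6061d2d3bcbd868748498a8b6465dedf101102036c6d969758599a9b74750e0fc0c13233dcdd6667a8a96a6b04053e3ff0f1e2e30c0d7677b8b97a7b1415eeef20219293fcfdc6c70809cacb24259e9f505142432c2dd6d71819dadb34354e4f8081f2f31c1da6a76869aaabc4c5feff30312223cccdb6b77879babbd4d52e2fe0e152533c3d0607c8c90a0be4e55e5f90918283eced1617d8d91a1bf4f58e8f4041b2b35c5de6e72829eaeb8485bebf707162638c8df6f73839fafb94956e6fa0a112137c7d464788894a4ba4a51e1fd0d1c2c3acad565798995a5bb4b5cecf0001, 0x6151510156056550655056035202620065505605560565506350560551016151655056055605655065505603510161006151510156056550635056055305655f6151510156056550655056035202620065505605560565506350560551016151655056055605655065505603510161006151510156056550635056055305655f, [128]⟩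

theorem dG27_ok : dG27.Ok := PcF.ok_spec _ (by decide +kernel)

/-- relations `[[0], [214, 0], [132, 100, 64], [216, 8, 40, 0], [16, 112, 208, 144, 0], [96, 32, 32, 160, 160, 128], [64, 192, 64, 192, 64, 64, 0], [128, 128, 128, 128, 128, 128, 128, 0]]` -/
def dLy : PcD := ⟨8, 0x8080808080808000004040c040c040000080a0a02020600000000090d0701000000000002808d8000000000040648400000000000000d60000000000000000, 0x7f7e7d7c7b7a797877767574737271706f6e6d6c6b6a696867666564636261605f5e5d5c5b5a595857565554535251504f4e4d4c4b4a494847464544434241403f3e3d3c3b3a393837363534333231302f2e2d2c2b2a292827262524232221201f1e1d1c1b1a191817161514131211100f0e0d0c0b0a09080706050403020100fffefdfcfbfaf9f8f7f6f5f4f3f2f1f0efeeedecebeae9e8e7e6e5e4e3e2e1e0dfdedddcdbdad9d8d7d6d5d4d3d2d1d0cfcecdcccbcac9c8c7c6c5c4c3c2c1c0bfbebdbcbbbab9b8b7b6b5b4b3b2b1b0afaeadacabaaa9a8a7a6a5a4a3a2a1a09f9e9d9c9b9a999897969594939291908f8e8d8c8b8a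89888786858483828180bfbebdbcbbbab9b8b7b6b5b4b3b2b1b0afaeadacabaaa9a8a7a6a5a4a3a2a1a09f9e9d9c9b9a999897969594939291908f8e8d8c8b8a89888786858483828180fffefdfcfbfaf9f8f7f6f5f4f3f2f1f0efeeedecebeae9e8e7e6e5e4e3e2e1e0dfdedddcdbdad9d8d7d6d5d4d3d2d1d0cfcecdcccbcac9c8c7c6c5c4c3c2c1c03f3e3d3c3b3a393837363534333231302f2e2d2c2b2a292827262524232221201f1e1d1c1b1a191817161514131211100f0e0d0c0b0a090807060504030201007f7e7d7c7b7a797877767574737271706f6e6d6c6b6a696867666564636261605f5e5d5c5b5a595857565554535251504f4e4d4c4b4a494847464544434241405f5e5d5c5b5a595857565554535251504f4e4d4c4b4a49484746454443424140fffefdfcfbfaf9f8f7f6f5f4f3f2f1f0efeeedecebeae9e8e7e6e5e4e3e2e1e01f1e1d1c1b1a191817161514131211100f0e0d0c0b0a09080706050403020100bfbebdbcbbbab9b8b7b6b5b4b3b2b1b0afaeadacabaaa9a8a7a6a5a4a3a2a1a0dfdedddcdbdad9d8d7d6d5d4d3d2d1d0cfcecdcccbcac9c8c7c6c5c4c3c2c1c07f7e7d7c7b7a797877767574737271706f6e6d6c6b6a6968676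66564636261609f9e9d9c9b9a999897969594939291908f8e8d8c8b8a898887868584838281803f3e3d3c3b3a393837363534333231302f2e2d2c2b2a292827262524232221206f6e6d6c6b6a696867666564636261607f7e7d7c7b7a79787776757473727170cfcecdcccbcac9c8c7c6c5c4c3c2c1c0dfdedddcdbdad9d8d7d6d5d4d3d2d1d02f2e2d2c2b2a292827262524232221203f3e3d3c3b3a393837363534333231308f8e8d8c8b8a898887868584838281809f9e9d9c9b9a99989796959493929190efeeedecebeae9e8e7e6e5e4e3e2e1e0fffefdfcfbfaf9f8f7f6f5f4f3f2f1f04f4e4d4c4b4a494847464544434241405f5e5d5c5b5a59585756555453525150afaeadacabaaa9a8a7a6a5a4a3a2a1a0bfbebdbcbbbab9b8b7b6b5b4b3b2b1b00f0e0d0c0b0a090807060504030201001f1e1d1c1b1a1918171615141312111077767574737271707f7e7d7c7b7a7978e7e6e5e4e3e2e1e0efeeedecebeae9e8d7d6d5d4d3d2d1d0dfdedddcdbdad9d847464544434241404f4e4d4c4b4a4948b7b6b5b4b3b2b1b0bfbebdbcbbbab9b827262524232221202f2e2d2c2b2a292817161514131211101f1e1d1c1b1a191887868584838281808f8e8d8c8b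8a8988f7f6f5f4f3f2f1f0fffefdfcfbfaf9f867666564636261606f6e6d6c6b6a696857565554535251505f5e5d5c5b5a5958c7c6c5c4c3c2c1c0cfcecdcccbcac9c837363534333231303f3e3d3c3b3a3938a7a6a5a4a3a2a1a0afaeadacabaaa9a897969594939291909f9e9d9c9b9a999807060504030201000f0e0d0c0b0a0908dbdad9d81f1e1d1c73727170373635348b8a89884f4e4d4ca3a2a1a0e7e6e5e47b7a7978bfbebdbc53525150171615142b2a2928efeeedec83828180c7c6c5c49b9a99985f5e5d5c3332313077767574cbcac9c80f0e0d0ce3e2e1e0a7a6a5a43b3a3938fffefdfc13121110575655546b6a6968afaeadacc3c2c1c0878685845b5a59589f9e9d9cf3f2f1f0b7b6b5b40b0a0908cfcecdcc2322212067666564fbfaf9f83f3e3d3cd3d2d1d097969594abaaa9a86f6e6d6c03020100474645441b1a1918dfdedddcb3b2b1b0f7f6f5f44b4a49488f8e8d8c6362616027262524bbbab9b87f7e7d7c93929190d7d6d5d4ebeae9e82f2e2d2c43424140070605047d7c7f7e99989b9a75747776919093928d8c8f8e69686b6a85848786616063625d5c5f5e39383b3a55545756313033322d2c2f2e49484b4a2524272641404342b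dbcbfbe59585b5ab5b4b7b6515053524d4c4f4ea9a8abaa45444746a1a0a3a29d9c9f9ef9f8fbfa95949796f1f0f3f2edecefee89888b8ae5e4e7e681808382fdfcfffe19181b1af5f4f7f6111013120d0c0f0ee9e8ebea05040706e1e0e3e2dddcdfdeb9b8bbbad5d4d7d6b1b0b3b2adacafaec9c8cbcaa5a4a7a6c1c0c3c23d3c3f3ed9d8dbda35343736d1d0d3d2cdcccfce29282b2ac5c4c7c6212023221d1c1f1e79787b7a15141716717073726d6c6f6e09080b0a6564676601000302babbecedbebf6869626334356667b0b1aaabfcfdaeaf7879727324257677a0a1dadb8c8ddedf0809020354550607d0d1cacb9c9dcecf1819121344451617c0c1fafbacadfeff2829222374752627f0f1eaebbcbdeeef3839323364653637e0e19a9bcccd9e9f484942431415464790918a8bdcdd8e8f585952530405565780813a3b6c6d3e3fe8e9e2e3b4b5e6e730312a2b7c7d2e2ff8f9f2f3a4a5f6f720215a5b0c0d5e5f88898283d4d5868750514a4b1c1d4e4f98999293c4c5969740417a7b2c2d7e7fa8a9a2a3f4f5a6a770716a6b3c3d6e6fb8b9b2b3e4e5b6b760611a1b4c4d1e1fc8c9c2c39495c6c710110a0b5c5d0e0fd8d9d2d38485d6d70001, 0x7f7e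7d7c7b7a797877767574737271706f6e6d6c6b6a696867666564636261605f5e5d5c5b5a595857565554535251504f4e4d4c4b4a494847464544434241403f3e3d3c3b3a393837363534333231302f2e2d2c2b2a292827262524232221201f1e1d1c1b1a191817161514131211100f0e0d0c0b0a09080706050403020100fffefdfcfbfaf9f8f7f6f5f4f3f2f1f0efeeedecebeae9e8e7e6e5e4e3e2e1e0dfdedddcdbdad9d8d7d6d5d4d3d2d1d0cfcecdcccbcac9c8c7c6c5c4c3c2c1c0bfbebdbcbbbab9b8b7b6b5b4b3b2b1b0afaeadacabaaa9a8a7a6a5a4a3a2a1a09f9e9d9c9b9a999897969594939291908f8e8d8c8b8a89888786858483828180bfbebdbcbbbab9b8b7b6b5b4b3b2b1b0afaeadacabaaa9a8a7a6a5a4a3a2a1a09f9e9d9c9b9a999897969594939291908f8e8d8c8b8a89888786858483828180fffefdfcfbfaf9f8f7f6f5f4f3f2f1f0efeeedecebeae9e8e7e6e5e4e3e2e1e0dfdedddcdbdad9d8d7d6d5d4d3d2d1d0cfcecdcccbcac9c8c7c6c5c4c3c2c1c03f3e3d3c3b3a393837363534333231302f2e2d2c2b2a292827262524232221201f1e1d1c1b1a191817161514131211100f0e0d0c0b0a090807060504030201007f7e7d7c7b7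a797877767574737271706f6e6d6c6b6a696867666564636261605f5e5d5c5b5a595857565554535251504f4e4d4c4b4a49484746454443424140dfdedddcdbdad9d8d7d6d5d4d3d2d1d0cfcecdcccbcac9c8c7c6c5c4c3c2c1c07f7e7d7c7b7a797877767574737271706f6e6d6c6b6a696867666564636261609f9e9d9c9b9a999897969594939291908f8e8d8c8b8a898887868584838281803f3e3d3c3b3a393837363534333231302f2e2d2c2b2a292827262524232221205f5e5d5c5b5a595857565554535251504f4e4d4c4b4a49484746454443424140fffefdfcfbfaf9f8f7f6f5f4f3f2f1f0efeeedecebeae9e8e7e6e5e4e3e2e1e01f1e1d1c1b1a191817161514131211100f0e0d0c0b0a09080706050403020100bfbebdbcbbbab9b8b7b6b5b4b3b2b1b0afaeadacabaaa9a8a7a6a5a4a3a2a1a06f6e6d6c6b6a696867666564636261607f7e7d7c7b7a79787776757473727170cfcecdcccbcac9c8c7c6c5c4c3c2c1c0dfdedddcdbdad9d8d7d6d5d4d3d2d1d02f2e2d2c2b2a292827262524232221203f3e3d3c3b3a393837363534333231308f8e8d8c8b8a898887868584838281809f9e9d9c9b9a99989796959493929190efeeedecebeae9e8e7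e6e5e4e3e2e1e0fffefdfcfbfaf9f8f7f6f5f4f3f2f1f04f4e4d4c4b4a494847464544434241405f5e5d5c5b5a59585756555453525150afaeadacabaaa9a8a7a6a5a4a3a2a1a0bfbebdbcbbbab9b8b7b6b5b4b3b2b1b00f0e0d0c0b0a090807060504030201001f1e1d1c1b1a1918171615141312111077767574737271707f7e7d7c7b7a7978e7e6e5e4e3e2e1e0efeeedecebeae9e8d7d6d5d4d3d2d1d0dfdedddcdbdad9d847464544434241404f4e4d4c4b4a4948b7b6b5b4b3b2b1b0bfbebdbcbbbab9b827262524232221202f2e2d2c2b2a292817161514131211101f1e1d1c1b1a191887868584838281808f8e8d8c8b8a8988f7f6f5f4f3f2f1f0fffefdfcfbfaf9f867666564636261606f6e6d6c6b6a696857565554535251505f5e5d5c5b5a5958c7c6c5c4c3c2c1c0cfcecdcccbcac9c837363534333231303f3e3d3c3b3a3938a7a6a5a4a3a2a1a0afaeadacabaaa9a897969594939291909f9e9d9c9b9a999807060504030201000f0e0d0c0b0a09089b9a99985f5e5d5c3332313077767574cbcac9c80f0e0d0ce3e2e1e0a7a6a5a43b3a3938fffefdfc13121110575655546b6a6968afaeadacc3c2c1c087868584dbdad9d81f1e1d1c737271703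73635348b8a89884f4e4d4ca3a2a1a0e7e6e5e47b7a7978bfbebdbc53525150171615142b2a2928efeeedec83828180c7c6c5c41b1a1918dfdedddcb3b2b1b0f7f6f5f44b4a49488f8e8d8c6362616027262524bbbab9b87f7e7d7c93929190d7d6d5d4ebeae9e82f2e2d2c43424140070605045b5a59589f9e9d9cf3f2f1f0b7b6b5b40b0a0908cfcecdcc2322212067666564fbfaf9f83f3e3d3cd3d2d1d097969594abaaa9a86f6e6d6c03020100474645447d7c7f7e99989b9a75747776919093928d8c8f8e69686b6a85848786616063625d5c5f5e39383b3a55545756313033322d2c2f2e49484b4a2524272641404342bdbcbfbe59585b5ab5b4b7b6515053524d4c4f4ea9a8abaa45444746a1a0a3a29d9c9f9ef9f8fbfa95949796f1f0f3f2edecefee89888b8ae5e4e7e681808382fdfcfffe19181b1af5f4f7f6111013120d0c0f0ee9e8ebea05040706e1e0e3e2dddcdfdeb9b8bbbad5d4d7d6b1b0b3b2adacafaec9c8cbcaa5a4a7a6c1c0c3c23d3c3f3ed9d8dbda35343736d1d0d3d2cdcccfce29282b2ac5c4c7c6212023221d1c1f1e79787b7a15141716717073726d6c6f6e09080b0a6564676601000302babbecedbebf6869626334356667b0b1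aaabfcfdaeaf7879727324257677a0a1dadb8c8ddedf0809020354550607d0d1cacb9c9dcecf1819121344451617c0c1fafbacadfeff2829222374752627f0f1eaebbcbdeeef3839323364653637e0e19a9bcccd9e9f484942431415464790918a8bdcdd8e8f585952530405565780813a3b6c6d3e3fe8e9e2e3b4b5e6e730312a2b7c7d2e2ff8f9f2f3a4a5f6f720215a5b0c0d5e5f88898283d4d5868750514a4b1c1d4e4f98999293c4c5969740417a7b2c2d7e7fa8a9a2a3f4f5a6a770716a6b3c3d6e6fb8b9b2b3e4e5b6b760611a1b4c4d1e1fc8c9c2c39495c6c710110a0b5c5d0e0fd8d9d2d38485d6d70001, 0x1161126361016343156511616620612111611244610065151565114166006121126612666505654415651363662063231266124365006313156515446600662f1161126361016343156511616620612111611244610065151565114166006121126612666505654415651363662063231266124365006313156515446600662f, [128]⟩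

theorem dLy_ok : dLy.Ok := PcF.ok_spec _ (by decide +kernel)

/-- relations `[[0], [2, 0], [52, 116, 0], [104, 200, 8, 0], [16, 16, 16, 16, 0], [32, 32, 32, 32, 32, 0], [64, 64, 64, 64, 64, 64, 0], [128, 128, 128, 128, 128, 128, 128, 0]]` -/
def dS44 : PcD := ⟨8, 0x80808080808080000040404040404000000020202020200000000010101010000000000008c868000000000000743400000000000000020000000000000000, 0x7f7e7d7c7b7a797877767574737271706f6e6d6c6b6a696867666564636261605f5e5d5c5b5a595857565554535251504f4e4d4c4b4a494847464544434241403f3e3d3c3b3a393837363534333231302f2e2d2c2b2a292827262524232221201f1e1d1c1b1a191817161514131211100f0e0d0c0b0a09080706050403020100fffefdfcfbfaf9f8f7f6f5f4f3f2f1f0efeeedecebeae9e8e7e6e5e4e3e2e1e0dfdedddcdbdad9d8d7d6d5d4d3d2d1d0cfcecdcccbcac9c8c7c6c5c4c3c2c1c0bfbebdbcbbbab9b8b7b6b5b4b3b2b1b0afaeadacabaaa9a8a7a6a5a4a3a2a1a09f9e9d9c9b9a999897969594939291908f8e8d8c8b8a8988878685848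3828180bfbebdbcbbbab9b8b7b6b5b4b3b2b1b0afaeadacabaaa9a8a7a6a5a4a3a2a1a09f9e9d9c9b9a999897969594939291908f8e8d8c8b8a89888786858483828180fffefdfcfbfaf9f8f7f6f5f4f3f2f1f0efeeedecebeae9e8e7e6e5e4e3e2e1e0dfdedddcdbdad9d8d7d6d5d4d3d2d1d0cfcecdcccbcac9c8c7c6c5c4c3c2c1c03f3e3d3c3b3a393837363534333231302f2e2d2c2b2a292827262524232221201f1e1d1c1b1a191817161514131211100f0e0d0c0b0a090807060504030201007f7e7d7c7b7a797877767574737271706f6e6d6c6b6a696867666564636261605f5e5d5c5b5a595857565554535251504f4e4d4c4b4a49484746454443424140dfdedddcdbdad9d8d7d6d5d4d3d2d1d0cfcecdcccbcac9c8c7c6c5c4c3c2c1c0fffefdfcfbfaf9f8f7f6f5f4f3f2f1f0efeeedecebeae9e8e7e6e5e4e3e2e1e09f9e9d9c9b9a999897969594939291908f8e8d8c8b8a89888786858483828180bfbebdbcbbbab9b8b7b6b5b4b3b2b1b0afaeadacabaaa9a8a7a6a5a4a3a2a1a05f5e5d5c5b5a595857565554535251504f4e4d4c4b4a494847464544434241407f7e7d7c7b7a797877767574737271706f6e6d6c6b6a69686766656463626160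1f1e1d1c1b1a191817161514131211100f0e0d0c0b0a090807060504030201003f3e3d3c3b3a393837363534333231302f2e2d2c2b2a29282726252423222120efeeedecebeae9e8e7e6e5e4e3e2e1e0fffefdfcfbfaf9f8f7f6f5f4f3f2f1f0cfcecdcccbcac9c8c7c6c5c4c3c2c1c0dfdedddcdbdad9d8d7d6d5d4d3d2d1d0afaeadacabaaa9a8a7a6a5a4a3a2a1a0bfbebdbcbbbab9b8b7b6b5b4b3b2b1b08f8e8d8c8b8a898887868584838281809f9e9d9c9b9a999897969594939291906f6e6d6c6b6a696867666564636261607f7e7d7c7b7a797877767574737271704f4e4d4c4b4a494847464544434241405f5e5d5c5b5a595857565554535251502f2e2d2c2b2a292827262524232221203f3e3d3c3b3a393837363534333231300f0e0d0c0b0a090807060504030201001f1e1d1c1b1a19181716151413121110f7f6f5f4f3f2f1f0fffefdfcfbfaf9f8e7e6e5e4e3e2e1e0efeeedecebeae9e8d7d6d5d4d3d2d1d0dfdedddcdbdad9d8c7c6c5c4c3c2c1c0cfcecdcccbcac9c8b7b6b5b4b3b2b1b0bfbebdbcbbbab9b8a7a6a5a4a3a2a1a0afaeadacabaaa9a897969594939291909f9e9d9c9b9a999887868584838281808f8e8d8c8b8a89887776757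4737271707f7e7d7c7b7a797867666564636261606f6e6d6c6b6a696857565554535251505f5e5d5c5b5a595847464544434241404f4e4d4c4b4a494837363534333231303f3e3d3c3b3a393827262524232221202f2e2d2c2b2a292817161514131211101f1e1d1c1b1a191807060504030201000f0e0d0c0b0a0908fbfaf9f8fffefdfcf3f2f1f0f7f6f5f4ebeae9e8efeeedece3e2e1e0e7e6e5e4dbdad9d8dfdedddcd3d2d1d0d7d6d5d4cbcac9c8cfcecdccc3c2c1c0c7c6c5c4bbbab9b8bfbebdbcb3b2b1b0b7b6b5b4abaaa9a8afaeadaca3a2a1a0a7a6a5a49b9a99989f9e9d9c93929190979695948b8a89888f8e8d8c83828180878685847b7a79787f7e7d7c73727170777675746b6a69686f6e6d6c63626160676665645b5a59585f5e5d5c53525150575655544b4a49484f4e4d4c43424140474645443b3a39383f3e3d3c33323130373635342b2a29282f2e2d2c23222120272625241b1a19181f1e1d1c13121110171615140b0a09080f0e0d0c03020100070605044d4c4f4e39383b3a85848786f1f0f3f25d5c5f5e29282b2a95949796e1e0e3e26d6c6f6e19181b1aa5a4a7a6d1d0d3d27d7c7f7e09080b0ab5b4b7b6c1c0c3c20d0c0f0e79787b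7ac5c4c7c6b1b0b3b21d1c1f1e69686b6ad5d4d7d6a1a0a3a22d2c2f2e59585b5ae5e4e7e6919093923d3c3f3e49484b4af5f4f7f681808382cdcccfceb9b8bbba0504070671707372dddcdfdea9a8abaa1514171661606362edecefee99989b9a2524272651505352fdfcfffe89888b8a35343736414043428d8c8f8ef9f8fbfa45444746313033329d9c9f9ee9e8ebea5554575621202322adacafaed9d8dbda6564676611101312bdbcbfbec9c8cbca7574777601000302aeafacad9a9b9899c6c7c4c5f2f3f0f1bebfbcbd8a8b8889d6d7d4d5e2e3e0e18e8f8c8dbabbb8b9e6e7e4e5d2d3d0d19e9f9c9daaaba8a9f6f7f4f5c2c3c0c1eeefeceddadbd8d986878485b2b3b0b1fefffcfdcacbc8c996979495a2a3a0a1cecfcccdfafbf8f9a6a7a4a592939091dedfdcddeaebe8e9b6b7b4b5828380812e2f2c2d1a1b181946474445727370713e3f3c3d0a0b080956575455626360610e0f0c0d3a3b383966676465525350511e1f1c1d2a2b282976777475424340416e6f6c6d5a5b585906070405323330317e7f7c7d4a4b484916171415222320214e4f4c4d7a7b787926272425121310115e5f5c5d6a6b68693637343502030001, 0x7f7e7d7c7b7a79787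7767574737271706f6e6d6c6b6a696867666564636261605f5e5d5c5b5a595857565554535251504f4e4d4c4b4a494847464544434241403f3e3d3c3b3a393837363534333231302f2e2d2c2b2a292827262524232221201f1e1d1c1b1a191817161514131211100f0e0d0c0b0a09080706050403020100fffefdfcfbfaf9f8f7f6f5f4f3f2f1f0efeeedecebeae9e8e7e6e5e4e3e2e1e0dfdedddcdbdad9d8d7d6d5d4d3d2d1d0cfcecdcccbcac9c8c7c6c5c4c3c2c1c0bfbebdbcbbbab9b8b7b6b5b4b3b2b1b0afaeadacabaaa9a8a7a6a5a4a3a2a1a09f9e9d9c9b9a999897969594939291908f8e8d8c8b8a89888786858483828180bfbebdbcbbbab9b8b7b6b5b4b3b2b1b0afaeadacabaaa9a8a7a6a5a4a3a2a1a09f9e9d9c9b9a999897969594939291908f8e8d8c8b8a89888786858483828180fffefdfcfbfaf9f8f7f6f5f4f3f2f1f0efeeedecebeae9e8e7e6e5e4e3e2e1e0dfdedddcdbdad9d8d7d6d5d4d3d2d1d0cfcecdcccbcac9c8c7c6c5c4c3c2c1c03f3e3d3c3b3a393837363534333231302f2e2d2c2b2a292827262524232221201f1e1d1c1b1a191817161514131211100f0e0d0c0b0a090807060504030201007f7e7d7c7b7a797877767574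737271706f6e6d6c6b6a696867666564636261605f5e5d5c5b5a595857565554535251504f4e4d4c4b4a49484746454443424140dfdedddcdbdad9d8d7d6d5d4d3d2d1d0cfcecdcccbcac9c8c7c6c5c4c3c2c1c0fffefdfcfbfaf9f8f7f6f5f4f3f2f1f0efeeedecebeae9e8e7e6e5e4e3e2e1e09f9e9d9c9b9a999897969594939291908f8e8d8c8b8a89888786858483828180bfbebdbcbbbab9b8b7b6b5b4b3b2b1b0afaeadacabaaa9a8a7a6a5a4a3a2a1a05f5e5d5c5b5a595857565554535251504f4e4d4c4b4a494847464544434241407f7e7d7c7b7a797877767574737271706f6e6d6c6b6a696867666564636261601f1e1d1c1b1a191817161514131211100f0e0d0c0b0a090807060504030201003f3e3d3c3b3a393837363534333231302f2e2d2c2b2a29282726252423222120efeeedecebeae9e8e7e6e5e4e3e2e1e0fffefdfcfbfaf9f8f7f6f5f4f3f2f1f0cfcecdcccbcac9c8c7c6c5c4c3c2c1c0dfdedddcdbdad9d8d7d6d5d4d3d2d1d0afaeadacabaaa9a8a7a6a5a4a3a2a1a0bfbebdbcbbbab9b8b7b6b5b4b3b2b1b08f8e8d8c8b8a898887868584838281809f9e9d9c9b9a999897969594939291906f6e6d6c6b6a6968676665646362616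07f7e7d7c7b7a797877767574737271704f4e4d4c4b4a494847464544434241405f5e5d5c5b5a595857565554535251502f2e2d2c2b2a292827262524232221203f3e3d3c3b3a393837363534333231300f0e0d0c0b0a090807060504030201001f1e1d1c1b1a19181716151413121110f7f6f5f4f3f2f1f0fffefdfcfbfaf9f8e7e6e5e4e3e2e1e0efeeedecebeae9e8d7d6d5d4d3d2d1d0dfdedddcdbdad9d8c7c6c5c4c3c2c1c0cfcecdcccbcac9c8b7b6b5b4b3b2b1b0bfbebdbcbbbab9b8a7a6a5a4a3a2a1a0afaeadacabaaa9a897969594939291909f9e9d9c9b9a999887868584838281808f8e8d8c8b8a898877767574737271707f7e7d7c7b7a797867666564636261606f6e6d6c6b6a696857565554535251505f5e5d5c5b5a595847464544434241404f4e4d4c4b4a494837363534333231303f3e3d3c3b3a393827262524232221202f2e2d2c2b2a292817161514131211101f1e1d1c1b1a191807060504030201000f0e0d0c0b0a0908fbfaf9f8fffefdfcf3f2f1f0f7f6f5f4ebeae9e8efeeedece3e2e1e0e7e6e5e4dbdad9d8dfdedddcd3d2d1d0d7d6d5d4cbcac9c8cfcecdccc3c2c1c0c7c6c5c4bbbab9b8bfbebdbcb3b2b1b0b7b6b5b4abaaa9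a8afaeadaca3a2a1a0a7a6a5a49b9a99989f9e9d9c93929190979695948b8a89888f8e8d8c83828180878685847b7a79787f7e7d7c73727170777675746b6a69686f6e6d6c63626160676665645b5a59585f5e5d5c53525150575655544b4a49484f4e4d4c43424140474645443b3a39383f3e3d3c33323130373635342b2a29282f2e2d2c23222120272625241b1a19181f1e1d1c13121110171615140b0a09080f0e0d0c03020100070605044d4c4f4e39383b3a85848786f1f0f3f25d5c5f5e29282b2a95949796e1e0e3e26d6c6f6e19181b1aa5a4a7a6d1d0d3d27d7c7f7e09080b0ab5b4b7b6c1c0c3c20d0c0f0e79787b7ac5c4c7c6b1b0b3b21d1c1f1e69686b6ad5d4d7d6a1a0a3a22d2c2f2e59585b5ae5e4e7e6919093923d3c3f3e49484b4af5f4f7f681808382cdcccfceb9b8bbba0504070671707372dddcdfdea9a8abaa1514171661606362edecefee99989b9a2524272651505352fdfcfffe89888b8a35343736414043428d8c8f8ef9f8fbfa45444746313033329d9c9f9ee9e8ebea5554575621202322adacafaed9d8dbda6564676611101312bdbcbfbec9c8cbca7574777601000302aeafacad9a9b9899c6c7c4c5f2f3f0f1bebfbcbd8a8b8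889d6d7d4d5e2e3e0e18e8f8c8dbabbb8b9e6e7e4e5d2d3d0d19e9f9c9daaaba8a9f6f7f4f5c2c3c0c1eeefeceddadbd8d986878485b2b3b0b1fefffcfdcacbc8c996979495a2a3a0a1cecfcccdfafbf8f9a6a7a4a592939091dedfdcddeaebe8e9b6b7b4b5828380812e2f2c2d1a1b181946474445727370713e3f3c3d0a0b080956575455626360610e0f0c0d3a3b383966676465525350511e1f1c1d2a2b282976777475424340416e6f6c6d5a5b585906070405323330317e7f7c7d4a4b484916171415222320214e4f4c4d7a7b787926272425121310115e5f5c5d6a6b68693637343502030001, 0x222f000000000000222f000000000000222f000000000000222f000000000000222f000000000000222f000000000000222f000000000000222f000000000000222f000000000000222f000000000000222f000000000000222f000000000000222f000000000000222f000000000000222f000000000000222f, [16, 32, 48, 64, 80, 96, 112, 128, 144, 160, 176, 192, 208, 224, 240]⟩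

theorem dS44_ok : dS44.Ok := PcF.ok_spec _ (by decide +kernel)

/-- relations `[[0], [6, 0], [4, 4, 0]]` -/
def dD8 : PcD := ⟨3, 0x900c00, 0x688facb3e21a4e5dc1, 0x688facb3e21a4e5dc1, 0x1f001f, [4]⟩

theorem dD8_ok : dD8.Ok := PcF.ok_spec _ (by decide +kernel)

/-- relations `[[0], [14, 0], [12, 12, 8], [8, 8, 8, 0]]` -/
def dD16 : PcD := ⟨4, 0x88808cc000e0000, 0x76543210fedcba983210fedcba987654547698badcfe103223456789abcdef01, 0x76543210fedcba98ba9876543210fedc547698badcfe103223456789abcdef01, 0x100022f0100022f, [8]⟩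

theorem dD16_ok : dD16.Ok := PcF.ok_spec _ (by decide +kernel)

/-- relations `[[0], [14, 0], [28, 28, 8], [24, 24, 8, 16], [16, 16, 16, 16, 0]]` -/
def dD32 : PcD := ⟨5, 0x8421004118c0008e7000001c000000, 0x7b9ac5a928398a418820ffbbcdeb38bdab49ca30398a418820ffbbcdeb38bdab49ca307b9ac5a92818820ffbbcdeb38bdab49ca307b9ac5a928398a4290e64a16a6b1ee8c272ad2f6ce37aef3fe0806294c85b5d09d6d8df7e1110e9531f1952f9d73c01, 0x7b9ac5a928398a418820ffbbcdeb38bdab49ca30bdab49ca307b9ac5a928398a418820ffbbcdeb38deb38bdab49ca307b9ac5a928398a418820ffbbc290e64a16a6b1ee8c272ad2f6ce37aef3fe0806294c85b5d09d6d8df7e1110e9531f1952f9d73c01, 0x33001000330033f033001000330033f, [16]⟩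

theorem dD32_ok : dD32.Ok := PcF.ok_spec _ (by decide +kernel)

/-- relations `[[8], [14, 0], [12, 12, 8], [8, 8, 8, 0]]` -/
def dQ16 : PcD := ⟨4, 0x88808cc000e0008, 0x76543210fedcba983210fedcba987654547698badcfe1032a3c5e7092b4d6f81, 0x76543210fedcba98ba9876543210fedc547698badcfe10322b4d6f81a3c5e709, 0x100022f0100022f, [8]⟩

theorem dQ16_ok : dQ16.Ok := PcF.ok_spec _ (by decide +kernel)

/-- relations `[[16], [30, 0], [28, 28, 8], [24, 24, 8, 16], [16, 16, 16, 16, 0]]` -/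
def dQ32 : PcD := ⟨5, 0x8421004118c0008e7000003c000010, 0x7b9ac5a928398a418820ffbbcdeb38bdab49ca30398a418820ffbbcdeb38bdab49ca307b9ac5a92818820ffbbcdeb38bdab49ca307b9ac5a928398a4290e64a16a6b1ee8c272ad2f6ce37aef3fe0806290e85b1f09d2f8df3c1114c9535d1956d9d77e01, 0x7b9ac5a928398a418820ffbbcdeb38bdab49ca30bdab49ca307b9ac5a928398a418820ffbbcdeb38deb38bdab49ca307b9ac5a928398a418820ffbbc290e64a16a6b1ee8c272ad2f6ce37aef3fe0806214c9535d1956d9d77e0190e85b1f09d2f8df3c11, 0x33001000330033f033001000330033f, [16]⟩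

theorem dQ32_ok : dQ32.Ok := PcF.ok_spec _ (by decide +kernel)

/-- relations `[[8], [30, 0], [4, 4, 16], [8, 24, 8, 0], [16, 16, 16, 16, 0]]` -/
def dW32 : PcD := ⟨5, 0x84210001184001021000003c000008, 0x7b9ac5a928398a418820ffbbcdeb38bdab49ca30bdab49ca30ffbbcdeb38398a4188207b9ac5a9285a928ffbbc18820bdab4deb387b9ac9ca30398a46b1ee4a16aad2f68c272ef3fece37a290e60806254e9df1e1916f95b3f11d0c8d75c0992d8537d01, 0x7b9ac5a928398a418820ffbbcdeb38bdab49ca30bdab49ca30ffbbcdeb38398a4188207b9ac5a928deb387b9ac9ca30398a45a928ffbbc18820bdab46b1ee4a16aad2f68c272ef3fece37a290e60806216f95b3f1154e9df1e1992d8537d01d0c8d75c09, 0x31113111331e331f31113111331e331f, [16]⟩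

theorem dW32_ok : dW32.Ok := PcF.ok_spec _ (by decide +kernel)

end Cfsg.Agent.FS.Real

private theorem dce_afca727e4d30 : _root_.True := by
  try have : _root_.True := by simp only [_root_.Cfsg.Agent.FS.Real.dU34.eq_1]
  exact _root_.True.intro
end

-- part: FS/Real/Ly
section
set_option linter.all false
open scoped Cfsg.Agent.FastGrp

/-!
# `Ly` (helper83, project FS, part C; generated)
-/

set_option autoImplicit false

namespace Cfsg.Agent.FS.Real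

namespace GLy

theorem facts : Finite Cfsg.Spor.Ly ∧ IsSimpleGroup Cfsg.Spor.Ly ∧ Nat.card Cfsg.Spor.Ly = 51765179004000000 ∧
    Nonempty (TypeM.Two.MT 11 Cfsg.Spor.Ly) := TypeM.FactsLy.facts ⟨MulEquiv.refl _⟩

/-- the involution centralizer -/
noncomputable def L : TypeM.Two.MT 11 Cfsg.Spor.Ly := Classical.choice facts.2.2.2

/-- the model -/
noncomputable def M : Mdl Cfsg.Spor.Ly := mMT 11 (by norm_num) (by norm_num) L

/-- the codes of the generators -/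
def X : ℕ → ℕ := get 90 0xd54cc43bb32aa219910880674f230ee4caa8866442200d54c8c3b932aa21991088033532d06eccaa88662422009d3cb43bb32aa2198908802f4f2d06e2caa88662422019d4c8c3b932a82199108802d513102eccaa8846442200

theorem ex : ∃ x, (M).RX dLy X x := Mdl.exists_RX (W := get 1 0x0) (by decide +kernel)

/-- the generators -/
noncomputable def x := Classical.choose ex

theorem hx : (M).RX dLy X x := Classical.choose_spec ex

theorem rels : (M).rels dLy X = true := by decide +kernel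

theorem rz : Rz dLy _ x := by
  obtain ⟨_, _, hc, -⟩ := facts
  obtain ⟨S, H⟩ := hx.gen dLy_ok rels
  refine rz_of H (m := 202207730484375) hc (by norm_num)
    (H.core_of_class (MT_class L) (a := 1) (b := 2) (by decide +kernel)) fun i _ => ?_
  rw [pResidual_eq_top (r := 3) (by norm_num) (by norm_num) (by rw [hc]; norm_num)]
  exact Subgroup.mem_top _

end GLy

theorem models_Ly : Models dLy 1 := models_one GLy.rz

end Cfsg.Agent.FS.Real
end

-- part: FS/Real/MatG2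
section
prune_inst 0x3010450074220000081800000200000020000000004040002000000001490000a04500003210000080d014507008000002100100422000000a003800000600000000000000000100000000000000000000000000000000000000000000000000000000000
set_option linter.all false
open scoped Cfsg.Agent.FastGrp

/-!
# The model of `G₂` (helper83, project FS, part C)
-/

set_option autoImplicit false

namespace Cfsg.Agent.FS.Real

open Matrix Cfsg.Lie

/-- Zorn's product as a bilinear map. -/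
def zornB (F : Type) [CommRing F] : (Fin 8 → F) →ₗ[F] (Fin 8 → F) →ₗ[F] (Fin 8 → F) :=
  LinearMap.mk₂ F zornMul
    (fun x x' y => by
      ext k
      (revert k; simp only [zornMul, dot3, cross3, _root_.Fin.forall_fin_succ, Fin.isValue, _root_.Pi.add_apply, _root_.Matrix.cons_val_zero, _root_.Matrix.cons_val_one, _root_.Matrix.cons_val, _root_.Matrix.smul_cons, _root_.smul_eq_mul, _root_.Matrix.smul_empty, _root_.Matrix.add_cons, _root_.Matrix.head_cons, _root_.Matrix.tail_cons, _root_.Matrix.empty_add_empty, _root_.Pi.sub_apply, _root_.Matrix.cons_val_succ, _root_.Matrix.cons_val_fin_one, _root_.forall_const]) <;> (repeat' with_reducible apply And.intro) <;> ring)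
    (fun c x y => by
      ext k
      (revert k; simp only [zornMul, dot3, cross3, _root_.Fin.forall_fin_succ, Fin.isValue, _root_.Pi.smul_apply, _root_.smul_eq_mul, _root_.Matrix.cons_val_zero, _root_.Matrix.cons_val_one, _root_.Matrix.cons_val, _root_.Matrix.smul_cons, _root_.Matrix.smul_empty, _root_.Matrix.add_cons, _root_.Matrix.head_cons, _root_.Matrix.tail_cons, _root_.Matrix.empty_add_empty, _root_.Pi.sub_apply, _root_.Pi.add_apply, _root_.Matrix.cons_val_succ, _root_.Matrix.cons_val_fin_one, _root_.forall_const]) <;> (repeat' with_reducible apply And.intro) <;> ring)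
    (fun x y y' => by
      ext k
      (revert k; simp only [zornMul, dot3, cross3, _root_.Fin.forall_fin_succ, Fin.isValue, _root_.Pi.add_apply, _root_.Matrix.cons_val_zero, _root_.Matrix.cons_val_one, _root_.Matrix.cons_val, _root_.Matrix.smul_cons, _root_.smul_eq_mul, _root_.Matrix.smul_empty, _root_.Matrix.add_cons, _root_.Matrix.head_cons, _root_.Matrix.tail_cons, _root_.Matrix.empty_add_empty, _root_.Pi.sub_apply, _root_.Matrix.cons_val_succ, _root_.Matrix.cons_val_fin_one, _root_.forall_const]) <;> (repeat' with_reducible apply And.intro) <;> ring)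
    (fun c x y => by
      ext k
      (revert k; simp only [zornMul, dot3, cross3, _root_.Fin.forall_fin_succ, Fin.isValue, _root_.Pi.smul_apply, _root_.smul_eq_mul, _root_.Matrix.cons_val_zero, _root_.Matrix.cons_val_one, _root_.Matrix.cons_val, _root_.Matrix.smul_cons, _root_.Matrix.smul_empty, _root_.Matrix.add_cons, _root_.Matrix.head_cons, _root_.Matrix.tail_cons, _root_.Matrix.empty_add_empty, _root_.Pi.sub_apply, _root_.Pi.add_apply, _root_.Matrix.cons_val_succ, _root_.Matrix.cons_val_fin_one, _root_.forall_const]) <;> (repeat' with_reducible apply And.intro) <;> ring)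

seal _root_.Finset.sum _root_.dotProduct in
theorem zorn_of_basis {F : Type} [CommRing F] {A : Matrix (Fin 8) (Fin 8) F}
    (h : ∀ i j : Fin 8, A *ᵥ zornMul (Pi.single i 1) (Pi.single j 1) = zornMul (fun k => A k i) fun k => A k j)
    (x y : Fin 8 → F) : A *ᵥ zornMul x y = zornMul (A *ᵥ x) (A *ᵥ y) := by
  have h1 : (zornB F).compr₂ (Matrix.mulVecLin A) = (zornB F).compl₁₂ (Matrix.mulVecLin A) (Matrix.mulVecLin A) := by
    refine LinearMap.ext_basis (Pi.basisFun F (Fin 8)) (Pi.basisFun F (Fin 8)) fun i j => ?_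
    rw [Pi.basisFun_apply, Pi.basisFun_apply]
    show A *ᵥ zornMul (Pi.single i 1) (Pi.single j 1) = zornMul (A *ᵥ Pi.single i 1) (A *ᵥ Pi.single j 1)
    rw [h, Matrix.mulVec_single_one, Matrix.mulVec_single_one]
    rfl
  exact congrArg (fun B : (Fin 8 → F) →ₗ[F] (Fin 8 → F) →ₗ[F] (Fin 8 → F) => B x y) h1

namespace RM

variable {F : Type} [Field F] (K : RM F)

/-- sums of four products -/
def z4 (a b c d e f g h : ℕ) : ℕ := K.fma (K.fma (K.fma (K.fma 0 a b) c d) e f) g h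

theorem val_z4 (a b c d e f g h : ℕ) : K.val (K.z4 a b c d e f g h) =
    K.val a * K.val b + K.val c * K.val d + K.val e * K.val f + K.val g * K.val h := by
  unfold z4
  rw [K.val_fma, K.val_fma, K.val_fma, K.val_fma, K.val_zero, zero_add]

/-- negation -/
def ng (a : ℕ) : ℕ := K.fma 0 K.m1 a

theorem val_ng (a : ℕ) : K.val (K.ng a) = -K.val a := by
  unfold ng
  rw [K.val_fma, K.val_zero, K.val_m1, zero_add, neg_one_mul]

/-- Zorn's product on codes -/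
def zc (x y : ℕ → ℕ) (k : ℕ) : ℕ :=
  bif Nat.blt k 4 then
    bif Nat.blt k 2 then
      bif Nat.beq k 0 then K.z4 (x 0) (y 0) (x 1) (y 4) (x 2) (y 5) (x 3) (y 6)
      else K.z4 (x 0) (y 1) (x 1) (y 7) (x 6) (y 5) (K.ng (x 5)) (y 6)
    else
      bif Nat.beq k 2 then K.z4 (x 0) (y 2) (x 2) (y 7) (x 4) (y 6) (K.ng (x 6)) (y 4)
      else K.z4 (x 0) (y 3) (x 3) (y 7) (x 5) (y 4) (K.ng (x 4)) (y 5)
  else
    bif Nat.blt k 6 then
      bif Nat.beq k 4 then K.z4 (x 4) (y 0) (x 7) (y 4) (x 2) (y 3) (K.ng (x 3)) (y 2)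
      else K.z4 (x 5) (y 0) (x 7) (y 5) (x 3) (y 1) (K.ng (x 1)) (y 3)
    else
      bif Nat.beq k 6 then K.z4 (x 6) (y 0) (x 7) (y 6) (x 1) (y 2) (K.ng (x 2)) (y 1)
      else K.z4 (x 4) (y 1) (x 5) (y 2) (x 6) (y 3) (x 7) (y 7)

theorem val_zc (x y : ℕ → ℕ) (k : Fin 8) :
    K.val (K.zc x y k) = zornMul (fun i : Fin 8 => K.val (x i)) (fun i : Fin 8 => K.val (y i)) k := by
  fin_cases k
  · show K.val (K.z4 _ _ _ _ _ _ _ _) = _
    rw [val_z4]
    simp only [zornMul, dot3, _root_.Fin.isValue, _root_.Fin.coe_ofNat_eq_mod, _root_.Nat.zero_mod, _root_.Matrix.cons_val_zero, _root_.Nat.one_mod, _root_.Nat.reduceMod, _root_.Matrix.cons_val_one, _root_.Matrix.cons_val, _root_.Matrix.smul_cons, _root_.smul_eq_mul, _root_.Matrix.smul_empty, _root_.Nat.mod_succ, _root_.Matrix.add_cons, _root_.Matrix.head_cons, _root_.Matrix.tail_cons, _root_.Matrix.empty_add_empty, _root_.Pi.sub_apply, _root_.Pi.add_apply,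 _root_.Fin.zero_eta]
    ring
  all_goals
    show K.val (K.z4 _ _ _ _ _ _ _ _) = _
    rw [val_z4]
    try rw [val_ng]
    simp only [zornMul, dot3, cross3, _root_.neg_mul, _root_.Fin.isValue, _root_.Fin.coe_ofNat_eq_mod, _root_.Nat.zero_mod, _root_.Matrix.cons_val_zero, _root_.Nat.one_mod, _root_.Nat.reduceMod, _root_.Matrix.cons_val_one, _root_.Matrix.cons_val, _root_.Matrix.smul_cons, _root_.smul_eq_mul, _root_.Matrix.smul_empty, _root_.Nat.mod_succ, _root_.Matrix.add_cons, _root_.Matrix.head_cons, _root_.Matrix.tail_cons, _root_.Matrix.empty_add_empty, _root_.Pi.sub_apply, _root_.Pi.add_apply, _root_.Fin.mk_one, _root_.Fin.reduceFinMk]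
    try ring

/-- basis vectors -/
def ev (i k : ℕ) : ℕ := bif Nat.beq k i then 1 else 0

theorem val_ev (i : Fin 8) : (fun k : Fin 8 => K.val (ev i k)) = Pi.single i 1 := by
  ext k
  unfold ev
  by_cases h : k = i
  · rw [h, Nat.beq_refl, cond_true, K.val_one, Pi.single_eq_same]
  · rw [beq_false fun h2 => h (Fin.ext h2), cond_false, K.val_zero, Pi.single_eq_of_ne h]

/-- check: an automorphism of Zorn's algebra -/
noncomputable def isZ (a : ℕ) : Bool :=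
  force a fun a => allB 8 fun i => allB 8 fun j => force (pack K.w 8 fun l => K.nrm (K.zc (ev i) (ev j) l)) fun P =>
    allB 8 fun k => Nat.beq (K.nrm (K.dot 8 (K.ent 8 a k) (get K.w P)))
      (K.nrm (K.zc (fun l => K.ent 8 a l i) (fun l => K.ent 8 a l j) k))

/-- The model of `G₂`; the witness is the inverse. -/
noncomputable def mG2 : Mdl (G2 F) :=
  K.mdl (Equiv.refl _) ((Units.coeHom _).comp (G2 F).subtype) (Units.val_injective.comp Subtype.val_injective)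
    (fun a w => Nat.beq (K.mmul 8 a w) (K.msc 8 1) && K.isZ a) fun a w h => by
      rw [Bool.and_eq_true] at h
      obtain ⟨g, hg⟩ := K.exists_unit (Equiv.refl _) h.1
      refine ⟨⟨g, ?_⟩, hg⟩
      have h2 := h.2
      unfold isZ at h2
      rw [force_eq] at h2
      intro x y
      show (g : Matrix (Fin 8) (Fin 8) F) *ᵥ _ = zornMul ((g : Matrix (Fin 8) (Fin 8) F) *ᵥ x)
        ((g : Matrix (Fin 8) (Fin 8) F) *ᵥ y)
      rw [hg]
      refine zorn_of_basis (fun i j => ?_) x y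
      ext k
      have h3 := allB_spec (allB_spec h2 i.2) j.2
      rw [force_eq] at h3
      have h4 := congrArg K.val (beq_eq (allB_spec h3 k.2))
      rw [K.val_nrm, K.val_nrm, val_zc, val_dot, ← Fin.sum_univ_eq_sum_range (fun l => K.val (K.ent 8 a k l) *
        K.val (get K.w (pack K.w 8 fun l => K.nrm (K.zc (ev i) (ev j) l)) l))] at h4
      refine Eq.trans ?_ h4
      show ∑ l : Fin 8, K.val (K.ent 8 a k l) * zornMul (Pi.single i 1) (Pi.single j 1) l = _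
      refine Finset.sum_congr rfl fun l _ => ?_
      rw [get_pack (fun _ => K.nrm_lt _) _ l.2, K.val_nrm, val_zc, val_ev, val_ev]

end RM

end Cfsg.Agent.FS.Real

private theorem dce_f33471df5049 : _root_.True := by
  try have : _root_.True := by simp only [_root_.Cfsg.Lie.zornMul.eq_1]
  try have : _root_.True := by simp only [_root_.Cfsg.Lie.cross3.eq_1]
  try have : _root_.True := by simp only [_root_.Cfsg.Lie.dot3.eq_1]
  exact _root_.True.intro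
end
end
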